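import Mathlib.FieldTheory.IntermediateField.Adjoin.Basic
import Mathlib.FieldTheory.IsAlgClosed.Basic
import Mathlib.RingTheory.Localization.Away.Basic
import Mathlib.RingTheory.Algebraic.Basic

/-!
# Lines through general points of an affine variety with ruled function field
-/

set_option autoImplicit false
set_option linter.style.haveILetI false
set_option maxHeartbeats 1000000

universe u

open Polynomial

noncomputable section

namespace Groth.Agent.RuledExcLib

variable {k : Type u} [Field k]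

/-- An injective map to a field extends injectively to a localization at one element. -/
theorem exists_away_hom {P : Type u} [CommRing P] [Algebra k P] {κ : Type u} [Field κ] [Algebra k κ]
    (f : P →ₐ[k] κ) (hf : Function.Injective f) (h : P) (hh : f h ≠ 0) :
    ∃ α : Localization.Away h →ₐ[k] κ, Function.Injective α ∧ ∀ x, α (algebraMap P _ x) = f x := by
  have hunit : ∀ y : Submonoid.powers h, IsUnit (f y) := by
    rintro ⟨_, n, rfl⟩
    exact isUnit_iff_ne_zero.2 (by rw [map_pow]; exact pow_ne_zero _ hh)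
  let α : Localization.Away h →ₐ[k] κ := IsLocalization.liftAlgHom (M := Submonoid.powers h) (f := f) hunit
  have hα : ∀ x, α (algebraMap P _ x) = f x := fun x => IsLocalization.lift_eq _ x
  refine ⟨α, ?_, hα⟩
  intro z z' hz
  obtain ⟨⟨a, s⟩, ha⟩ := IsLocalization.surj (Submonoid.powers h) z
  obtain ⟨⟨b, t⟩, hb⟩ := IsLocalization.surj (Submonoid.powers h) z'
  have e1 : α z * f s = f a := by rw [← hα, ← hα, ← map_mul, ha]
  have e2 : α z' * f t = f b := by rw [← hα, ← hα, ← map_mul, hb]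
  have e3 : a * (t : P) = b * (s : P) := hf (by rw [map_mul, map_mul, ← e1, ← e2, hz]; ring)
  have u1 := IsLocalization.map_units (Localization.Away h) s
  have u2 := IsLocalization.map_units (Localization.Away h) t
  refine u1.mul_right_cancel (u2.mul_right_cancel ?_)
  rw [ha, ← map_mul, e3, map_mul, ← hb]
  ring

/-- A hom on the source of an injection gives one on its range. -/
theorem exists_range_hom {Q D κ : Type u} [CommRing Q] [Algebra k Q] [CommRing D] [Algebra k D] [CommRing κ]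
    [Algebra k κ] (α : Q →ₐ[k] κ) (hα : Function.Injective α) (f : Q →ₐ[k] D) :
    ∃ F : α.range →ₐ[k] D, ∀ q h, F ⟨α q, h⟩ = f q :=
  ⟨f.comp (AlgEquiv.ofInjective α hα).symm.toAlgHom, fun q _ =>
    congrArg f ((AlgEquiv.ofInjective α hα).symm_apply_apply q)⟩

/-- The elements which become integral after multiplying by a power of `h` form a subalgebra. -/
def powDenom {κ : Type u} [Field κ] [Algebra k κ] (S : Subalgebra k κ) (h : κ) (hh : h ∈ S) : Subalgebra k κ where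
  carrier := {b | ∃ n : ℕ, b * h ^ n ∈ S}
  mul_mem' := by
    rintro a b ⟨n, hn⟩ ⟨m, hm⟩
    exact ⟨n + m, by rw [pow_add, show a * b * (h ^ n * h ^ m) = (a * h ^ n) * (b * h ^ m) by ring]; exact S.mul_mem hn hm⟩
  add_mem' := by
    rintro a b ⟨n, hn⟩ ⟨m, hm⟩
    refine ⟨n + m, ?_⟩
    rw [pow_add, show (a + b) * (h ^ n * h ^ m) = (a * h ^ n) * h ^ m + (b * h ^ m) * h ^ n by ring]
    exact S.add_mem (S.mul_mem hn (S.pow_mem hh m)) (S.mul_mem hm (S.pow_mem hh n))
  algebraMap_mem' r := ⟨0, by simpa using S.algebraMap_mem r⟩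

set_option maxHeartbeats 1000000 in
/-- A chart of the ruled model. -/
theorem exists_model {κ : Type u} [Field κ] [Algebra k κ] (L : Subfield κ) (T : κ)
    (hT : Transcendental L T) (htop : Subfield.closure ((L : Set κ) ∪ {T}) = ⊤)
    (B : Subalgebra k κ) (hBfg : B.FG) (hBfrac : ∀ z : κ, ∃ a ∈ B, ∃ b ∈ B, b ≠ 0 ∧ z = a / b)
    (C : Subalgebra k κ) (hCfg : C.FG) (hCL : (C : Set κ) ⊆ L) :
    ∃ (A : Subalgebra k κ) (g₁ : κ) (hg₁B : g₁ ∈ B) (H : A[X]),
      C ≤ A ∧ A ≤ powDenom B g₁ hg₁B ∧ g₁ ≠ 0 ∧ T ∈ powDenom B g₁ hg₁B ∧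
      Function.Injective ((aeval (R := A) T).restrictScalars k) ∧
      (aeval (R := A) T).restrictScalars k H ≠ 0 ∧
      B ≤ powDenom ((aeval (R := A) T).restrictScalars k).range ((aeval (R := A) T).restrictScalars k H) ⟨H, rfl⟩ := by
  classical
  -- a chart of the ruled model
  have hadj : ∀ z : κ, ∃ p q : (L : Subfield κ)[X], z = aeval T p / aeval T q := fun z => by
    have h1 : z ∈ IntermediateField.adjoin L {T} := by
      have h2 : Subfield.closure ((L : Set κ) ∪ {T}) ≤ (IntermediateField.adjoin L {T}).toSubfield :=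
        Subfield.closure_le.2 (Set.union_subset
          (fun l hl => (IntermediateField.adjoin L {T}).algebraMap_mem ⟨l, hl⟩)
          (IntermediateField.subset_adjoin L {T}))
      rw [htop] at h2
      exact h2 trivial
    exact (IntermediateField.mem_adjoin_simple_iff L z).1 h1
  choose p q hpq using hadj
  obtain ⟨sB, hsB⟩ := hBfg
  obtain ⟨sC, hsC⟩ := hCfg
  let G : Finset κ := sC ∪ sB.biUnion fun b =>
    ((p b).support.image fun i => (((p b).coeff i : L) : κ)) ∪ ((q b).support.image fun i => (((q b).coeff i : L) : κ))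
  let A : Subalgebra k κ := Algebra.adjoin k (G : Set κ)
  have hAL : ∀ z ∈ A, z ∈ L := fun z hz => Algebra.adjoin_induction (p := fun z _ => z ∈ L)
    (fun z hz => by
      simp only [G, Finset.coe_union, Finset.coe_biUnion, Finset.coe_image, Set.mem_union, Set.mem_iUnion] at hz
      rcases hz with hz | ⟨b, hb, hz⟩
      · exact hCL (hsC ▸ Algebra.subset_adjoin hz)
      · rcases hz with ⟨i, -, rfl⟩ | ⟨i, -, rfl⟩ <;> exact Subtype.mem _)
    (fun r => hCL (C.algebraMap_mem r)) (fun _ _ _ _ => L.add_mem) (fun _ _ _ _ => L.mul_mem) hz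
  have hCA : C ≤ A := hsC ▸ Algebra.adjoin_mono (fun z hz => Finset.mem_union_left _ hz)
  let ev : A[X] →ₐ[k] κ := (aeval (R := A) T).restrictScalars k
  let AL : A →+* L := { toFun := fun a => ⟨a, hAL a a.2⟩, map_one' := rfl, map_mul' := fun _ _ => rfl,
                        map_zero' := rfl, map_add' := fun _ _ => rfl }
  have hevL : ∀ P : A[X], aeval T (P.map AL) = ev P := fun P => by
    show eval₂ (algebraMap L κ) T (P.map AL) = eval₂ (algebraMap A κ) T P
    rw [eval₂_map]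
    rfl
  have hev : Function.Injective ev := by
    rw [injective_iff_map_eq_zero]
    intro P hP
    refine Polynomial.map_injective AL (fun a b hab => Subtype.ext (congrArg (fun l : L => (l : κ)) hab)) ?_
    rw [Polynomial.map_zero]
    exact (transcendental_iff.1 hT) _ ((hevL P).trans hP)
  have hlift : ∀ P : (L : Subfield κ)[X], (∀ i, ((P.coeff i : L) : κ) ∈ A) → aeval T P ∈ ev.range := fun P hP => by
    rw [aeval_eq_sum_range]
    refine sum_mem fun i _ => ⟨Polynomial.C (⟨_, hP i⟩ : A) * X ^ i, ?_⟩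
    show aeval T _ = _
    rw [map_mul, map_pow, aeval_C, aeval_X, Algebra.smul_def]
    rfl
  have hcoef : ∀ b ∈ sB, ∀ i, (((p b).coeff i : L) : κ) ∈ A ∧ (((q b).coeff i : L) : κ) ∈ A := fun b hb i => by
    refine ⟨?_, ?_⟩
    · by_cases hi : i ∈ (p b).support
      · exact Algebra.subset_adjoin (Finset.mem_union_right _ (Finset.mem_biUnion.2 ⟨b, hb,
          Finset.mem_union_left _ (Finset.mem_image_of_mem _ hi)⟩))
      · rw [notMem_support_iff.1 hi]; exact A.zero_mem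
    · by_cases hi : i ∈ (q b).support
      · exact Algebra.subset_adjoin (Finset.mem_union_right _ (Finset.mem_biUnion.2 ⟨b, hb,
          Finset.mem_union_right _ (Finset.mem_image_of_mem _ hi)⟩))
      · rw [notMem_support_iff.1 hi]; exact A.zero_mem
  let sB' := sB.filter fun b => b ≠ 0
  have hq0 : ∀ b ∈ sB', aeval T (q b) ≠ 0 := fun b hb h0 => (Finset.mem_filter.1 hb).2 (by rw [hpq b, h0, div_zero])
  let h₀ : κ := ∏ b ∈ sB', aeval T (q b)
  have hh₀ : h₀ ≠ 0 := Finset.prod_ne_zero_iff.2 hq0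
  have hh₀r : h₀ ∈ ev.range :=
    prod_mem fun b hb => hlift _ fun i => (hcoef b (Finset.mem_filter.1 hb).1 i).2
  have hBpd : B ≤ powDenom ev.range h₀ hh₀r := by
    rw [← hsB, Algebra.adjoin_le_iff]
    intro b hb
    by_cases hb0 : b = 0
    · exact ⟨0, by rw [hb0, zero_mul]; exact zero_mem _⟩
    have hb' : b ∈ sB' := Finset.mem_filter.2 ⟨hb, hb0⟩
    refine ⟨1, ?_⟩
    rw [pow_one, show b * h₀ = aeval T (p b) * ∏ b' ∈ sB'.erase b, aeval T (q b') from ?_]
    · exact mul_mem (hlift _ fun i => (hcoef b hb i).1)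
        (prod_mem fun b' hb'' => hlift _ fun i => (hcoef b' (Finset.mem_filter.1 (Finset.mem_of_mem_erase hb'')).1 i).2)
    · show b * (∏ b' ∈ sB', aeval T (q b')) = _
      rw [← Finset.mul_prod_erase sB' _ hb', ← mul_assoc]
      congr 1
      exact (congrArg (· * aeval T (q b)) (hpq b)).trans (div_mul_cancel₀ _ (hq0 b hb'))
  -- denominators
  choose nu hnu de hde hde0 heq using hBfrac
  let gs : Finset κ := insert T G
  let g₁ : κ := ∏ z ∈ gs, de z
  have hg₁B : g₁ ∈ B := prod_mem fun z _ => hde z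
  have hg₁0 : g₁ ≠ 0 := Finset.prod_ne_zero_iff.2 fun z _ => hde0 z
  have hgen : ∀ z ∈ gs, z ∈ powDenom B g₁ hg₁B := fun z hz => by
    refine ⟨1, ?_⟩
    rw [pow_one, show z * g₁ = nu z * ∏ z' ∈ gs.erase z, de z' from ?_]
    · exact mul_mem (hnu z) (prod_mem fun z' _ => hde z')
    · show z * (∏ z' ∈ gs, de z') = _
      rw [← Finset.mul_prod_erase gs _ hz, ← mul_assoc]
      congr 1
      exact (congrArg (· * de z) (heq z)).trans (div_mul_cancel₀ _ (hde0 z))
  have hApd : A ≤ powDenom B g₁ hg₁B :=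
    Algebra.adjoin_le_iff.2 fun z hz => hgen z (Finset.mem_insert_of_mem hz)
  have hevpd : ev.range ≤ powDenom B g₁ hg₁B := by
    rintro _ ⟨P, rfl⟩
    induction P using Polynomial.induction_on' with
    | add P Q hP hQ => exact (map_add ev P Q).symm ▸ add_mem hP hQ
    | monomial i a =>
      show aeval T (monomial i a) ∈ _
      rw [aeval_monomial]
      exact mul_mem (hApd a.2) (pow_mem (hgen T (Finset.mem_insert_self _ _)) i)
  obtain ⟨H, hH⟩ := id hh₀r
  refine ⟨A, g₁, hg₁B, H, hCA, hApd, hg₁0, hgen T (Finset.mem_insert_self _ _), hev,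
    (show ev H ≠ 0 from hH ▸ hh₀), fun b hb => ?_⟩
  obtain ⟨n, hn⟩ := hBpd hb
  exact ⟨n, by rw [show (aeval (R := A) T).restrictScalars k H = h₀ from hH]; exact hn⟩

set_option maxHeartbeats 2000000 in
/-- The lines of a chart. -/
theorem exists_arcs_of_model [IsAlgClosed k] {κ : Type u} [Field κ] [Algebra k κ] (T : κ)
    (A B C : Subalgebra k κ) (g₁ : κ) (hg₁B : g₁ ∈ B) (H : A[X]) (hCA : C ≤ A) (hApd : A ≤ powDenom B g₁ hg₁B)
    (hg₁0 : g₁ ≠ 0) (hTpd : T ∈ powDenom B g₁ hg₁B) (ev : A[X] →ₐ[k] κ) (hevC : ∀ a, ev (Polynomial.C a) = (a : κ))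
    (hevX : ev X = T) (hev : Function.Injective ev) (h₀ : κ) (hH : ev H = h₀) (hh₀ : h₀ ≠ 0) (hh₀r : h₀ ∈ ev.range)
    (hBpd : B ≤ powDenom ev.range h₀ hh₀r) :
    ∃ g : B, g ≠ 0 ∧ ∀ χ : B →ₐ[k] k, χ g ≠ 0 →
      ∃ (a : k) (h : k[X]), h.eval a ≠ 0 ∧ ∃ Θ : B →ₐ[k] Localization.Away h,
        (∀ E : Localization.Away h →ₐ[k] k, (∀ p : k[X], E (algebraMap _ _ p) = p.eval a) → ∀ b, E (Θ b) = χ b) ∧
        (∀ c : B, (c : κ) ∈ C → Θ c = algebraMap k _ (χ c)) ∧
        ∃ b : B, ∀ r : k, Θ b ≠ algebraMap k _ r := by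
  classical
  have hevm : ∀ i a, ev (monomial i a) = (a : κ) * T ^ i := fun i a => by
    rw [← C_mul_X_pow_eq_monomial, map_mul, map_pow, hevC, hevX]
  have hevpd : ev.range ≤ powDenom B g₁ hg₁B := by
    rintro _ ⟨P, rfl⟩
    induction P using Polynomial.induction_on' with
    | add P Q hP hQ => exact (map_add ev P Q).symm ▸ add_mem hP hQ
    | monomial i a =>
      show ev (monomial i a) ∈ _
      rw [hevm]
      exact mul_mem (hApd a.2) (pow_mem hTpd i)
  obtain ⟨m, hm⟩ := hevpd hh₀r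
  refine ⟨⟨g₁, hg₁B⟩ * ⟨_, hm⟩, ?_, ?_⟩
  · intro h0
    have := congrArg Subtype.val h0
    simp only [Subalgebra.coe_mul, ZeroMemClass.coe_zero, mul_eq_zero, pow_eq_zero_iff'] at this
    tauto
  intro χ hχ
  rw [map_mul, mul_ne_zero_iff] at hχ
  -- extend the point to the chart
  obtain ⟨α, hαinj, hα⟩ := exists_away_hom B.val Subtype.val_injective ⟨g₁, hg₁B⟩ hg₁0
  have hunitχ : ∀ y : Submonoid.powers (⟨g₁, hg₁B⟩ : B), IsUnit (χ y) := by
    rintro ⟨_, n, rfl⟩
    exact isUnit_iff_ne_zero.2 (by rw [map_pow]; exact pow_ne_zero _ hχ.1)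
  let χl : Localization.Away (⟨g₁, hg₁B⟩ : B) →ₐ[k] k := IsLocalization.liftAlgHom (M := Submonoid.powers _) (f := χ) hunitχ
  obtain ⟨χ', hχ'F⟩ := exists_range_hom α hαinj χl
  have hχ' : ∀ b : B, ∀ hb, χ' ⟨(b : κ), hb⟩ = χ b := fun b hb => by
    have e : (⟨(b : κ), hb⟩ : α.range) = ⟨α (algebraMap B _ b), ⟨_, rfl⟩⟩ := Subtype.ext (hα b).symm
    exact ((congrArg χ' e).trans (hχ'F _ _)).trans (IsLocalization.lift_eq _ b)
  have hBα : B ≤ α.range := fun b hb => ⟨algebraMap B _ ⟨b, hb⟩, hα _⟩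
  have hpdα : powDenom B g₁ hg₁B ≤ α.range := fun z ⟨n, hn⟩ => by
    refine ⟨IsLocalization.mk' (Localization.Away (⟨g₁, hg₁B⟩ : B)) (⟨_, hn⟩ : B) (⟨_, n, rfl⟩ : Submonoid.powers (⟨g₁, hg₁B⟩ : B)), ?_⟩
    have e := congrArg α (IsLocalization.mk'_spec (Localization.Away (⟨g₁, hg₁B⟩ : B)) (⟨_, hn⟩ : B)
      (⟨_, n, rfl⟩ : Submonoid.powers (⟨g₁, hg₁B⟩ : B)))
    rw [map_mul, hα, hα] at e
    exact mul_right_cancel₀ (pow_ne_zero n hg₁0) e
  have hTα : T ∈ α.range := hpdα (hTpd)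
  let w : A →ₐ[k] k := χ'.comp (Subalgebra.inclusion (hApd.trans hpdα))
  let a₀ : k := χ' ⟨T, hTα⟩
  have hcompat : ∀ P : A[X], ∀ hP, (P.map (w : A →+* k)).eval a₀ = χ' ⟨ev P, hP⟩ := by
    intro P hP
    induction P using Polynomial.induction_on' with
    | add P Q hP' hQ' =>
      have hP1 : ev P ∈ α.range := hpdα (hevpd ⟨P, rfl⟩)
      have hQ1 : ev Q ∈ α.range := hpdα (hevpd ⟨Q, rfl⟩)
      rw [Polynomial.map_add, eval_add, hP' hP1, hQ' hQ1, ← map_add]
      exact congrArg χ' (Subtype.ext (map_add ev P Q).symm)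
    | monomial i a =>
      rw [map_monomial, eval_monomial]
      show χ' _ * (χ' ⟨T, hTα⟩) ^ i = _
      rw [← map_pow, ← map_mul]
      exact congrArg χ' (Subtype.ext (hevm i a).symm)
  let h : k[X] := H.map (w : A →+* k)
  have hha : h.eval a₀ ≠ 0 := by
    rw [hcompat H (hpdα (hevpd ⟨H, rfl⟩))]
    intro h0
    apply hχ.2
    rw [← hχ' _ (hBα hm)]
    have e : (⟨h₀ * g₁ ^ m, hBα hm⟩ : α.range) = ⟨ev H, hpdα (hevpd ⟨H, rfl⟩)⟩ * ⟨g₁, hBα hg₁B⟩ ^ m :=
      Subtype.ext (by simp [hH])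
    exact (congrArg χ' e).trans (by rw [map_mul, h0, zero_mul])
  obtain ⟨β, hβinj, hβ⟩ := exists_away_hom ev hev H (hH ▸ hh₀)
  have hBβ : powDenom ev.range h₀ hh₀r ≤ β.range := fun z ⟨n, P, hP⟩ => by
    refine ⟨IsLocalization.mk' (Localization.Away H) P (⟨_, n, rfl⟩ : Submonoid.powers H), ?_⟩
    have e := congrArg β (IsLocalization.mk'_spec (Localization.Away H) P (⟨_, n, rfl⟩ : Submonoid.powers H))
    rw [map_mul, hβ, hβ, map_pow, hH] at e
    exact mul_right_cancel₀ (pow_ne_zero n hh₀) (e.trans hP)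
  let mw : A[X] →ₐ[k] Localization.Away h :=
    (IsScalarTower.toAlgHom k k[X] (Localization.Away h)).comp (Polynomial.mapAlgHom w)
  have hmw : ∀ y : Submonoid.powers H, IsUnit (mw y) := by
    rintro ⟨_, n, rfl⟩
    rw [map_pow]
    exact (IsLocalization.Away.algebraMap_isUnit h).pow n
  obtain ⟨mwl, hmwl⟩ : ∃ f : Localization.Away H →ₐ[k] Localization.Away h, ∀ P, f (algebraMap A[X] _ P) = mw P :=
    ⟨IsLocalization.liftAlgHom (M := Submonoid.powers H) (f := mw) hmw, fun P => IsLocalization.lift_eq _ P⟩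
  obtain ⟨Θ', hΘ'F⟩ := exists_range_hom β hβinj mwl
  have hΘ' : ∀ P : A[X], ∀ hP, Θ' ⟨ev P, hP⟩ = algebraMap k[X] _ (P.map (w : A →+* k)) := fun P hP => by
    have e : (⟨ev P, hP⟩ : β.range) = ⟨β (algebraMap A[X] _ P), ⟨_, rfl⟩⟩ := Subtype.ext (hβ P).symm
    exact ((congrArg Θ' e).trans (hΘ'F _ _)).trans (hmwl P)
  have hB' : B ≤ β.range := hBpd.trans hBβ
  let Θ : B →ₐ[k] Localization.Away h := Θ'.comp (Subalgebra.inclusion hB')
  have hevβ : ev.range ≤ β.range := fun z hz => hBβ ⟨0, by simpa using hz⟩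
  have hEΘ : ∀ E : Localization.Away h →ₐ[k] k, (∀ p : k[X], E (algebraMap _ _ p) = p.eval a₀) →
      ∀ b : B, E (Θ b) = χ b := by
    intro E hE b
    obtain ⟨n, P, hP⟩ := hBpd b.2
    have hP' : ev P ∈ β.range := hevβ ⟨P, rfl⟩
    have hH' : ev H ∈ β.range := hevβ ⟨H, rfl⟩
    have e1 : Θ b * Θ' ⟨ev H, hH'⟩ ^ n = Θ' ⟨ev P, hP'⟩ := by
      show Θ' _ * _ = _
      rw [← map_pow, ← map_mul]
      exact congrArg Θ' (Subtype.ext (by
        show (b : κ) * (ev H) ^ n = ev P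
        rw [hH]; exact hP.symm))
    have e2 := congrArg E e1
    rw [map_mul, map_pow, hΘ', hΘ', hE, hE, hcompat H (hpdα (hevpd ⟨H, rfl⟩)),
      hcompat P (hpdα (hevpd ⟨P, rfl⟩))] at e2
    have e3 : (⟨ev P, hpdα (hevpd ⟨P, rfl⟩)⟩ : α.range) = ⟨b, hBα b.2⟩ * ⟨ev H, hpdα (hevpd ⟨H, rfl⟩)⟩ ^ n :=
      Subtype.ext (by
        show ev P = (b : κ) * (ev H) ^ n
        rw [hH]; exact hP)
    rw [e3, map_mul, map_pow, hχ' b (hBα b.2)] at e2
    have h1 : χ' ⟨ev H, hpdα (hevpd ⟨H, rfl⟩)⟩ ≠ 0 := by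
      rw [← hcompat H (hpdα (hevpd ⟨H, rfl⟩))]; exact hha
    exact mul_right_cancel₀ (pow_ne_zero n h1) e2
  refine ⟨a₀, h, hha, Θ, hEΘ, fun c hc => ?_, ?_⟩
  · have hcP : ev (Polynomial.C (⟨(c : κ), hCA hc⟩ : A)) = (c : κ) := hevC _
    have e : Θ c = Θ' ⟨ev (Polynomial.C (⟨(c : κ), hCA hc⟩ : A)), hevβ ⟨_, rfl⟩⟩ :=
      congrArg Θ' (Subtype.ext hcP.symm)
    rw [e, hΘ', Polynomial.map_C, IsScalarTower.algebraMap_apply k k[X]]
    congr 1
    rw [Polynomial.algebraMap_eq]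
    congr 1
    exact hχ' c _
  · by_contra hall
    push Not at hall
    obtain ⟨n, hn⟩ := hTpd
    obtain ⟨r, hr⟩ := hall ⟨_, hn⟩
    obtain ⟨s, hs⟩ := hall ⟨g₁, hg₁B⟩
    have hTβ : T ∈ β.range := hevβ ⟨X, hevX⟩
    have hΘT : Θ' ⟨T, hTβ⟩ = algebraMap k[X] _ X := by
      have e : (⟨T, hTβ⟩ : β.range) = ⟨ev X, hevβ ⟨X, rfl⟩⟩ := Subtype.ext (hevX).symm
      rw [e, hΘ', Polynomial.map_X]
    have e1 : Θ ⟨_, hn⟩ = Θ' ⟨T, hTβ⟩ * Θ ⟨g₁, hg₁B⟩ ^ n := by
      show Θ' _ = Θ' _ * Θ' _ ^ n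
      rw [← map_pow, ← map_mul]
      exact congrArg Θ' (Subtype.ext rfl)
    rw [hΘT, hr, hs, IsScalarTower.algebraMap_apply k k[X] (Localization.Away h) r,
      IsScalarTower.algebraMap_apply k k[X] (Localization.Away h) s, ← map_pow, ← map_mul] at e1
    have hh0 : h ≠ 0 := fun h0 => hha (by rw [h0, eval_zero])
    have hinj : Function.Injective (algebraMap k[X] (Localization.Away h)) :=
      IsLocalization.injective _ (powers_le_nonZeroDivisors_of_noZeroDivisors hh0)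
    have e2 := hinj e1
    have hunE : ∀ y : Submonoid.powers h, IsUnit ((aeval a₀ : k[X] →ₐ[k] k) y) := by
      rintro ⟨_, i, rfl⟩
      rw [map_pow, coe_aeval_eq_eval]
      exact (isUnit_iff_ne_zero.2 hha).pow i
    have hs0 : s ≠ 0 := fun h0 => hχ.1 (by
      have := hEΘ (IsLocalization.liftAlgHom (M := Submonoid.powers h) (f := aeval a₀) hunE)
        (fun p => (IsLocalization.lift_eq _ p).trans (congrFun (coe_aeval_eq_eval a₀) p)) ⟨g₁, hg₁B⟩
      rw [hs, h0, map_zero, map_zero] at this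
      exact this.symm)
    rw [Polynomial.algebraMap_eq, ← map_pow] at e2
    have := congrArg (coeff · 1) e2
    simp only [coeff_C_succ, coeff_mul_C, coeff_X_one, one_mul] at this
    exact pow_ne_zero n hs0 this.symm

/-- **Lines through general points.** A domain of finite type whose fraction field is a simple transcendental
extension of a field containing a given subalgebra carries through each general rational point an open piece of
an affine line, along which the subalgebra is constant. -/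
theorem exists_arcs [IsAlgClosed k] {κ : Type u} [Field κ] [Algebra k κ] (L : Subfield κ) (T : κ)
    (hT : Transcendental L T) (htop : Subfield.closure ((L : Set κ) ∪ {T}) = ⊤)
    (B : Subalgebra k κ) (hBfg : B.FG) (hBfrac : ∀ z : κ, ∃ a ∈ B, ∃ b ∈ B, b ≠ 0 ∧ z = a / b)
    (C : Subalgebra k κ) (hCfg : C.FG) (hCL : (C : Set κ) ⊆ L) :
    ∃ g : B, g ≠ 0 ∧ ∀ χ : B →ₐ[k] k, χ g ≠ 0 →
      ∃ (a : k) (h : k[X]), h.eval a ≠ 0 ∧ ∃ Θ : B →ₐ[k] Localization.Away h,
        (∀ E : Localization.Away h →ₐ[k] k, (∀ p : k[X], E (algebraMap _ _ p) = p.eval a) → ∀ b, E (Θ b) = χ b) ∧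
        (∀ c : B, (c : κ) ∈ C → Θ c = algebraMap k _ (χ c)) ∧
        ∃ b : B, ∀ r : k, Θ b ≠ algebraMap k _ r := by
  obtain ⟨A, g₁, hg₁B, H, h1, h2, h3, h4, h5, h6, h7⟩ := exists_model L T hT htop B hBfg hBfrac C hCfg hCL
  exact exists_arcs_of_model T A B C g₁ hg₁B H h1 h2 h3 h4 _ (fun a => aeval_C T a) (aeval_X T) h5 _ rfl h6 ⟨H, rfl⟩ h7

end Groth.Agent.RuledExcLib
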