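import Groth.Agent.RuledExcLib.Zariski
import Groth.Agent.RuledExcLib.Arcs
import Groth.Agent.FinIntClosure.Basic
import Mathlib.RingTheory.Ideal.GoingUp
import Mathlib.RingTheory.DedekindDomain.Basic

/-!
# Lines in the exceptional divisors of birational maps of affine varieties
-/

set_option autoImplicit false
set_option linter.style.haveILetI false
set_option maxHeartbeats 2000000

universe u

open Polynomial

noncomputable section

namespace Groth.Agent.RuledExcLib

variable {k : Type u} [Field k]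

/-- An element of a domain integral over an algebraically closed field is a constant. -/
theorem eq_algebraMap_of_isIntegral [IsAlgClosed k] {D : Type u} [CommRing D] [IsDomain D] [Algebra k D] {z : D}
    (hz : IsIntegral k z) : ∃ r : k, z = algebraMap k D r := by
  haveI : Algebra.IsIntegral k (Algebra.adjoin k {z}) :=
    Algebra.IsIntegral.adjoin (fun x hx => by rw [Set.mem_singleton_iff.1 hx]; exact hz)
  obtain ⟨r, hr⟩ := (IsAlgClosed.algebraMap_bijective_of_isIntegral (k := k) (K := Algebra.adjoin k {z})).2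
    ⟨z, Algebra.subset_adjoin rfl⟩
  exact ⟨r, (congrArg Subtype.val hr).symm⟩

/-- The localization at a prime inside the fraction field. -/
def locSub {A K : Type u} [CommRing A] [IsDomain A] [Field K] [Algebra A K] [IsFractionRing A K] (p : Ideal A) [p.IsPrime] :
    Subring K :=
  (Localization.subalgebra.ofField K p.primeCompl p.primeCompl_le_nonZeroDivisors).toSubring

theorem mem_locSub {A K : Type u} [CommRing A] [IsDomain A] [Field K] [Algebra A K] [IsFractionRing A K] (p : Ideal A)
    [p.IsPrime] {z : K} : z ∈ locSub p ↔ ∃ a s : A, s ∉ p ∧ z = algebraMap A K a * (algebraMap A K s)⁻¹ :=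
  ⟨fun ⟨a, s, hs, h⟩ => ⟨a, s, hs, h⟩, fun ⟨a, s, hs, h⟩ => ⟨a, s, hs, h⟩⟩

theorem isLocalization_locSub {A K : Type u} [CommRing A] [IsDomain A] [Field K] [Algebra A K] [IsFractionRing A K]
    (p : Ideal A) [p.IsPrime] :
    @IsLocalization A _ p.primeCompl (Localization.subalgebra.ofField K p.primeCompl p.primeCompl_le_nonZeroDivisors) _ _ :=
  Localization.subalgebra.isLocalization_ofField K p.primeCompl p.primeCompl_le_nonZeroDivisors

variable [IsAlgClosed k]

/-- **Exceptional divisors are covered by lines.** -/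
theorem exists_arcs_of_birational {B C K : Type u} [CommRing B] [IsDomain B] [Algebra k B] [Algebra.FiniteType k B]
    [CommRing C] [IsDomain C] [Algebra k C] [Algebra.FiniteType k C]
    [Field K] [Algebra B K] [IsFractionRing B K] [Algebra C K] [IsFractionRing C K]
    (j : C →ₐ[k] B) (hj : ∀ c, algebraMap B K (j c) = algebraMap C K c)
    (p : Ideal B) [p.IsPrime] (hp0 : p ≠ ⊥) (hp1 : ∀ P : Ideal B, P.IsPrime → P ≤ p → P ≠ ⊥ → P = p)
    (hreg : IsRegularLocalRing (Localization.AtPrime (p.comap j.toRingHom)))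
    (hq : ∃ Q : Ideal C, Q.IsPrime ∧ Q ≠ ⊥ ∧ Q < p.comap j.toRingHom) :
    ∃ g : B, g ∉ p ∧ ∀ χ : B →ₐ[k] k, (∀ b ∈ p, χ b = 0) → χ g ≠ 0 →
      ∃ (a : k) (h : k[X]), h.eval a ≠ 0 ∧ ∃ Θ : B →ₐ[k] Localization.Away h,
        (∀ E : Localization.Away h →ₐ[k] k, (∀ P : k[X], E (algebraMap _ _ P) = P.eval a) → ∀ b, E (Θ b) = χ b) ∧
        (∀ c : C, Θ (j c) = algebraMap k _ (χ (j c))) ∧ ∃ b : B, ∀ r : k, Θ b ≠ algebraMap k _ r := by
  classical
  set q : Ideal C := p.comap j.toRingHom with hqdef
  haveI : q.IsPrime := Ideal.IsPrime.comap _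
  -- the normalization
  haveI : Module.Finite B (integralClosure B K) := FinIntClosure.finite_integralClosure k B K K
  haveI : IsIntegrallyClosed (integralClosure B K) := integralClosure.isIntegrallyClosedOfFiniteExtension K
  haveI : IsFractionRing (integralClosure B K) K := integralClosure.isFractionRing_of_finite_extension K K
  haveI : IsNoetherianRing B := Algebra.FiniteType.isNoetherianRing k B
  haveI : IsNoetherianRing (integralClosure B K) := IsNoetherianRing.of_finite B (integralClosure B K)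
  let B' := integralClosure B K
  letI algk : Algebra k B' := ((algebraMap B B').comp (algebraMap k B)).toAlgebra
  haveI : IsScalarTower k B B' := IsScalarTower.of_algebraMap_eq fun _ => rfl
  haveI : Algebra.IsIntegral B B' := Algebra.IsIntegral.of_finite B B'
  have hinj : Function.Injective (algebraMap B B') := fun a b hab =>
    IsFractionRing.injective B K (congrArg Subtype.val hab)
  obtain ⟨p', -, hp'prime, hp'⟩ := Ideal.exists_ideal_over_prime_of_isIntegral p (⊥ : Ideal B') (by
    intro x hx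
    rw [Ideal.mem_comap, Ideal.mem_bot] at hx
    rw [hinj (hx.trans (map_zero _).symm)]
    exact p.zero_mem)
  haveI := hp'prime
  have hp'0 : p' ≠ ⊥ := fun h => hp0 (by
    rw [← hp', h]
    exact Ideal.comap_bot_of_injective _ hinj)
  -- the valuation ring
  let Vloc := Localization.subalgebra.ofField K p'.primeCompl p'.primeCompl_le_nonZeroDivisors
  haveI : IsLocalization.AtPrime Vloc p' := isLocalization_locSub p'
  haveI : IsLocalRing Vloc := IsLocalization.AtPrime.isLocalRing Vloc p'
  haveI : IsNoetherianRing Vloc := IsLocalization.isNoetherianRing p'.primeCompl Vloc inferInstance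
  haveI : IsIntegrallyClosed Vloc := isIntegrallyClosed_of_isLocalization (R := B') (S := Vloc) p'.primeCompl p'.primeCompl_le_nonZeroDivisors
  haveI : Ring.DimensionLEOne Vloc := ⟨fun {P} hP0 hP => by
    have hpr := (IsLocalization.isPrime_iff_isPrime_disjoint p'.primeCompl Vloc P).1 hP
    let P' : Ideal B' := P.comap (algebraMap B' Vloc)
    haveI : P'.IsPrime := hpr.1
    have hle : P' ≤ p' := fun x hx => by
      by_contra hx'
      exact (Set.disjoint_left.1 hpr.2) hx' hx
    have hP'0 : P' ≠ ⊥ := fun h => hP0 (by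
      rw [← IsLocalization.map_comap p'.primeCompl Vloc P, show Ideal.under B' P = ⊥ from h, Ideal.map_bot])
    have heq : P' = p' := by
      by_contra hne
      have hlt : P' < p' := lt_of_le_of_ne hle hne
      have h1 := Ideal.IsIntegral.comap_lt_comap (R := B) hlt
      rw [hp'] at h1
      exact h1.ne (hp1 _ inferInstance h1.le (Ideal.IsIntegral.comap_ne_bot B hP'0))
    have hPm : P = IsLocalRing.maximalIdeal Vloc := by
      rw [← IsLocalization.map_comap p'.primeCompl Vloc P, show Ideal.under B' P = p' from heq]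
      exact IsLocalization.AtPrime.map_eq_maximalIdeal p' Vloc
    rw [hPm]
    infer_instance⟩
  haveI : IsDedekindDomain Vloc := { }
  have hnf : ¬ IsField Vloc := fun hF => by
    obtain ⟨x, hx, hx0⟩ := Submodule.exists_mem_ne_zero_of_ne_bot hp'0
    have h1 : algebraMap B' Vloc x ∈ IsLocalRing.maximalIdeal Vloc :=
      (IsLocalization.AtPrime.to_map_mem_maximal_iff Vloc p' x).2 hx
    rw [IsLocalRing.isField_iff_maximalIdeal_eq.1 hF, Ideal.mem_bot] at h1
    exact hx0 (IsLocalization.injective Vloc p'.primeCompl_le_nonZeroDivisors (h1.trans (map_zero _).symm))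
  haveI hdvr : IsDiscreteValuationRing Vloc :=
    ((IsDiscreteValuationRing.TFAE Vloc hnf).out 2 0).1 (inferInstance : IsDedekindDomain Vloc)
  let V : ValuationSubring K :=
    { toSubring := Vloc.toSubring
      mem_or_inv_mem' := fun z => by
        obtain ⟨a, b, hb, rfl⟩ := IsFractionRing.div_surjective (A := B') z
        rcases ValuationRing.cond (algebraMap B' Vloc a) (algebraMap B' Vloc b) with ⟨c, hc | hc⟩
        · right
          have e : algebraMap B' K a * (c : K) = algebraMap B' K b := congrArg Subtype.val hc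
          show (algebraMap B' K a / algebraMap B' K b)⁻¹ ∈ Vloc
          by_cases ha : algebraMap B' K a = 0
          · rw [ha, zero_div, inv_zero]; exact Vloc.zero_mem
          rw [inv_div, ← e, mul_div_cancel_left₀ _ ha]
          exact c.2
        · left
          have e : algebraMap B' K b * (c : K) = algebraMap B' K a := congrArg Subtype.val hc
          show algebraMap B' K a / algebraMap B' K b ∈ Vloc
          by_cases hb' : algebraMap B' K b = 0
          · rw [hb', div_zero]; exact Vloc.zero_mem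
          rw [← e, mul_div_cancel_left₀ _ hb']
          exact c.2 }
  haveI : IsDiscreteValuationRing V := hdvr
  -- the regular ring
  let R : Subring K := locSub q
  let Rloc := Localization.subalgebra.ofField K q.primeCompl q.primeCompl_le_nonZeroDivisors
  haveI : IsLocalization.AtPrime Rloc q := isLocalization_locSub q
  let jB : C → B' := fun c => algebraMap B B' (j c)
  have hjB : ∀ c, algebraMap B' K (jB c) = algebraMap C K c := fun c => hj c
  have hjq : ∀ c, jB c ∈ p' ↔ c ∈ q := fun c => by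
    show j c ∈ p'.comap (algebraMap B B') ↔ _
    rw [hp']
    rfl
  have hmemV : ∀ z : K, z ∈ V ↔ ∃ a s : B', s ∉ p' ∧ z = algebraMap B' K a * (algebraMap B' K s)⁻¹ :=
    fun z => ⟨fun ⟨a, s, hs, h⟩ => ⟨a, s, hs, h⟩, fun ⟨a, s, hs, h⟩ => ⟨a, s, hs, h⟩⟩
  have hjinj : Function.Injective (algebraMap C K) := IsFractionRing.injective C K
  have hBinj : Function.Injective (algebraMap B' K) := IsFractionRing.injective B' K
  have hne0 : ∀ s : B', s ∉ p' → algebraMap B' K s ≠ 0 := fun s hs h =>
    hs ((hBinj (h.trans (map_zero _).symm)) ▸ p'.zero_mem)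
  have hinvV : ∀ s : B', s ∉ p' → (algebraMap B' K s)⁻¹ ∈ V := fun s hs =>
    (hmemV _).2 ⟨1, s, hs, by rw [map_one, one_mul]⟩
  have hnotV : ∀ s : B', s ∈ p' → s ≠ 0 → (algebraMap B' K s)⁻¹ ∉ V := fun s hs hs0 hV => by
    obtain ⟨a, t, ht, he⟩ := (hmemV _).1 hV
    have hsK : algebraMap B' K s ≠ 0 := fun h => hs0 (hBinj (h.trans (map_zero _).symm))
    have htK := hne0 t ht
    have e : algebraMap B' K t = algebraMap B' K (a * s) := by
      rw [map_mul]
      field_simp at he
      linear_combination he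
    exact ht (hBinj e ▸ p'.mul_mem_left a hs)
  have hdom : Dom R V := by
    refine ⟨?_, ?_, ?_, ?_⟩
    · exact IsRegularLocalRing.of_ringEquiv (R := Localization.AtPrime q)
        (IsLocalization.algEquiv q.primeCompl (Localization.AtPrime q) Rloc).toRingEquiv
    · intro z hz
      obtain ⟨a, s, hs, rfl⟩ := (mem_locSub q).1 hz
      exact (hmemV _).2 ⟨jB a, jB s, fun h => hs ((hjq s).1 h), by rw [hjB, hjB]⟩
    · intro z hz hz0 hzV
      obtain ⟨a, s, hs, rfl⟩ := (mem_locSub q).1 hz
      refine (mem_locSub q).2 ⟨s, a, fun ha => ?_, by rw [mul_inv, inv_inv, mul_comm]⟩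
      have ha0 : jB a ≠ 0 := fun h => left_ne_zero_of_mul hz0 (by rw [← hjB, h, map_zero])
      refine hnotV (jB a) ((hjq a).2 ha) ha0 ?_
      have hsK : algebraMap C K s ≠ 0 := fun h => hs ((hjinj (h.trans (map_zero _).symm)) ▸ q.zero_mem)
      rw [hjB, show (algebraMap C K a)⁻¹ = (algebraMap C K a * (algebraMap C K s)⁻¹)⁻¹ * (algebraMap C K s)⁻¹ by
        rw [mul_inv, inv_inv, mul_assoc, mul_inv_cancel₀ hsK, mul_one]]
      refine V.toSubring.mul_mem hzV ?_
      rw [← hjB]
      exact hinvV _ fun h => hs ((hjq s).1 h)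
    · intro z
      obtain ⟨a, b, hb, rfl⟩ := IsFractionRing.div_surjective (A := C) z
      exact ⟨_, (mem_locSub q).2 ⟨a, 1, fun h => ‹q.IsPrime›.ne_top (q.eq_top_iff_one.2 h), by simp⟩, _,
        (mem_locSub q).2 ⟨b, 1, fun h => ‹q.IsPrime›.ne_top (q.eq_top_iff_one.2 h), by simp⟩,
        fun h => nonZeroDivisors.ne_zero hb (hjinj (h.trans (map_zero _).symm)), rfl⟩
  have hne : R ≠ V.toSubring := fun hEq => by
    obtain ⟨Q, hQp, hQ0, hQlt⟩ := hq
    haveI := hQp
    have hdis : Disjoint (q.primeCompl : Set C) (Q : Set C) := Set.disjoint_left.2 fun x hx hx' => hx (hQlt.le hx')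
    have hQ' := IsLocalization.isPrime_of_isPrime_disjoint q.primeCompl Rloc Q hQp hdis
    let e : Rloc ≃+* Vloc :=
      { toFun := fun x => ⟨x.1, (hEq ▸ x.2 : (x : K) ∈ V.toSubring)⟩
        invFun := fun x => ⟨x.1, (hEq.symm ▸ x.2 : (x : K) ∈ R)⟩
        left_inv := fun _ => rfl
        right_inv := fun _ => rfl
        map_mul' := fun _ _ => rfl
        map_add' := fun _ _ => rfl }
    haveI hpr : (Ideal.map e (Q.map (algebraMap C Rloc))).IsPrime := Ideal.map_isPrime_of_equiv e
    have h0 : Ideal.map e (Q.map (algebraMap C Rloc)) ≠ ⊥ := fun h => by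
      rw [Ideal.map_eq_bot_iff_of_injective e.injective] at h
      rw [Ideal.map_eq_bot_iff_of_injective (IsLocalization.injective Rloc q.primeCompl_le_nonZeroDivisors)] at h
      exact hQ0 h
    have hmax := Ideal.IsPrime.isMaximal hpr h0
    haveI : IsLocalRing Rloc := IsLocalization.AtPrime.isLocalRing Rloc q
    have hQm : Q.map (algebraMap C Rloc) = IsLocalRing.maximalIdeal Rloc := by
      have h2 : ((Ideal.map e (Q.map (algebraMap C Rloc))).comap e).IsMaximal :=
        Ideal.comap_isMaximal_of_surjective _ e.surjective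
      rw [Ideal.comap_map_of_bijective _ e.bijective] at h2
      exact IsLocalRing.eq_maximalIdeal h2
    have h3 := congrArg (Ideal.comap (algebraMap C Rloc)) hQm
    have h4 : (Q.map (algebraMap C Rloc)).comap (algebraMap C Rloc) = Q :=
      IsLocalization.comap_map_of_isPrime_disjoint q.primeCompl Rloc hQp hdis
    rw [h4] at h3
    replace h3 := h3.trans (IsLocalization.AtPrime.comap_maximalIdeal Rloc q)
    exact hQlt.ne h3
  haveI : Algebra.FiniteType k B' := Algebra.FiniteType.trans (S := B) inferInstance inferInstance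
  obtain ⟨sB, hsB⟩ := (Algebra.FiniteType.out : (⊤ : Subalgebra k B').FG)
  have hkC : ∀ r : k, algebraMap B' K (algebraMap k B' r) = algebraMap C K (algebraMap k C r) := fun r => by
    rw [← hjB]
    show algebraMap B' K (algebraMap k B' r) = algebraMap B' K (algebraMap B B' (j (algebraMap k C r)))
    rw [AlgHom.commutes]
    rfl
  have hCR : ∀ c, algebraMap C K c ∈ R := fun c =>
    (mem_locSub q).2 ⟨c, 1, fun h => ‹q.IsPrime›.ne_top (q.eq_top_iff_one.2 h), by simp⟩
  have hB'V : ∀ b, algebraMap B' K b ∈ V := fun b =>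
    (hmemV _).2 ⟨b, 1, fun h => hp'prime.ne_top (p'.eq_top_iff_one.2 h), by simp⟩
  have hcl : ∀ b : B', algebraMap B' K b ∈ Subring.closure ((R : Set K) ∪ (sB.image (algebraMap B' K) : Finset K)) := by
    intro b
    have hb : b ∈ Algebra.adjoin k (sB : Set B') := hsB.ge trivial
    refine Algebra.adjoin_induction (p := fun b _ => algebraMap B' K b ∈ _)
      (fun x hx => Subring.subset_closure (Or.inr (Finset.mem_coe.2 (Finset.mem_image_of_mem _ hx))))
      (fun r => ?_) (fun _ _ _ _ h1 h2 => by rw [map_add]; exact Subring.add_mem _ h1 h2)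
      (fun _ _ _ _ h1 h2 => by rw [map_mul]; exact Subring.mul_mem _ h1 h2) hb
    rw [hkC]
    exact Subring.subset_closure (Or.inl (hCR _))
  obtain ⟨L, T, hL, hT, htop⟩ := hdom.ruled hne (sB.image (algebraMap B' K))
    (fun b hb => by
      obtain ⟨x, -, rfl⟩ := Finset.mem_image.1 hb
      exact hB'V x)
    (fun z hz => by
      obtain ⟨a, s, hs, rfl⟩ := (hmemV z).1 hz
      exact ⟨_, _, hcl a, hcl s, hne0 s hs, hinvV s hs, (div_eq_mul_inv _ _).symm⟩)
  -- the residue field
  let κ := IsLocalRing.ResidueField V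
  let toV : B' →+* V := (algebraMap B' K).codRestrict V.toSubring hB'V
  let ρ₀ : B' →+* κ := (IsLocalRing.residue V).comp toV
  letI algκ : Algebra k κ := (ρ₀.comp (algebraMap k B')).toAlgebra
  let ρ : B' →ₐ[k] κ := { ρ₀ with commutes' := fun _ => rfl }
  have hker : ∀ b, ρ b = 0 ↔ b ∈ p' := fun b => by
    show IsLocalRing.residue V _ = 0 ↔ _
    rw [IsLocalRing.residue_eq_zero_iff,
      show toV b = ⟨algebraMap B' K b, hB'V b⟩ from rfl, mem_maximal_iff V (hB'V b)]
    constructor
    · rintro (h | h)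
      · rw [hBinj (h.trans (map_zero _).symm)]; exact p'.zero_mem
      · by_contra hb; exact h (hinvV b hb)
    · intro hb
      by_cases hb0 : b = 0
      · left; rw [hb0, map_zero]
      · exact Or.inr (hnotV b hb hb0)
  let jk : C →ₐ[k] B' := (IsScalarTower.toAlgHom k B B').comp j
  obtain ⟨g', hg'0, hg'⟩ := exists_arcs L T hT htop ρ.range
    ((Algebra.map_top ρ) ▸ (Algebra.FiniteType.out : (⊤ : Subalgebra k B').FG).map ρ)
    (fun z => by
      obtain ⟨⟨w, hw⟩, rfl⟩ := IsLocalRing.residue_surjective z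
      obtain ⟨a, s, hs, hws⟩ := (hmemV w).1 hw
      refine ⟨ρ a, ⟨a, rfl⟩, ρ s, ⟨s, rfl⟩, fun h => hs ((hker s).1 h), ?_⟩
      rw [eq_div_iff (fun h => hs ((hker s).1 h))]
      show IsLocalRing.residue V _ * IsLocalRing.residue V _ = IsLocalRing.residue V _
      rw [← map_mul]
      congr 1
      refine Subtype.ext ?_
      show w * algebraMap B' K s = algebraMap B' K a
      rw [hws, mul_assoc, inv_mul_cancel₀ (hne0 s hs), mul_one])
    (ρ.comp jk).range ((Algebra.map_top (ρ.comp jk)) ▸ (Algebra.FiniteType.out : (⊤ : Subalgebra k C).FG).map _)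
    (by
      rintro _ ⟨c, rfl⟩
      refine hL (algebraMap B' K (jB c)) (hB'V _) ?_
      rw [hjB]
      exact hCR c)
  obtain ⟨g₁, hg₁⟩ := g'.2
  have hg₁p : g₁ ∉ p' := fun h => hg'0 (Subtype.ext (hg₁.symm.trans ((hker g₁).2 h)))
  let J : Ideal B' := p' ⊔ Ideal.span {g₁}
  have hlt := Ideal.comap_lt_comap_of_integral_mem_sdiff (R := B) (I := p') (J := J) le_sup_left (x := g₁)
    ⟨Ideal.mem_sup_right (Ideal.mem_span_singleton_self _), hg₁p⟩ (Algebra.IsIntegral.isIntegral g₁)
  obtain ⟨g, hgJ, hgp⟩ := Set.exists_of_ssubset hlt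
  refine ⟨g, fun h => hgp (hp'.symm ▸ h), fun χ hχp hχg => ?_⟩
  -- lift the point
  haveI : (RingHom.ker χ).IsPrime := RingHom.ker_isPrime _
  obtain ⟨P', hP'le, hP'prime, hP'⟩ := Ideal.exists_ideal_over_prime_of_isIntegral (RingHom.ker χ) p'
    (hp'.le.trans fun b hb => hχp b hb)
  haveI := hP'prime
  haveI : (RingHom.ker χ).IsMaximal := RingHom.ker_isMaximal_of_surjective χ fun r => ⟨algebraMap k B r, χ.commutes r⟩
  haveI : P'.IsMaximal := Ideal.isMaximal_of_isIntegral_of_isMaximal_comap P' (by rw [hP']; infer_instance)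
  letI : Field (B' ⧸ P') := Ideal.Quotient.field P'
  haveI : Module.Finite k (B' ⧸ P') := finite_of_finite_type_of_isJacobsonRing k (B' ⧸ P')
  let eχ : k ≃ₐ[k] B' ⧸ P' := AlgEquiv.ofBijective (Algebra.ofId k (B' ⧸ P')) IsAlgClosed.algebraMap_bijective_of_isIntegral
  let χ' : B' →ₐ[k] k := eχ.symm.toAlgHom.comp (Ideal.Quotient.mkₐ k P')
  have hχ'0 : ∀ b, χ' b = 0 ↔ b ∈ P' := fun b => by
    show eχ.symm (Ideal.Quotient.mk P' b) = 0 ↔ _
    rw [EmbeddingLike.map_eq_zero_iff, Ideal.Quotient.eq_zero_iff_mem]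
  have hχ'χ : ∀ b : B, χ' (algebraMap B B' b) = χ b := fun b => by
    have h1 : b - algebraMap k B (χ b) ∈ RingHom.ker χ := by
      rw [RingHom.mem_ker, map_sub, AlgHom.commutes]; exact sub_self _
    rw [← hP', Ideal.mem_comap, ← hχ'0, map_sub, map_sub, ← IsScalarTower.algebraMap_apply, AlgHom.commutes,
      sub_eq_zero] at h1
    exact h1
  have hfac : ∀ b, ρ b = 0 → χ' b = 0 := fun b hb => (hχ'0 b).2 (hP'le ((hker b).1 hb))
  obtain ⟨χ'', hχ''⟩ : ∃ χ'' : ρ.range →ₐ[k] k, ∀ b, χ'' ⟨ρ b, ⟨b, rfl⟩⟩ = χ' b := by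
    refine ⟨(Ideal.Quotient.liftₐ (RingHom.ker ρ) χ' fun a ha => hfac a ha).comp
      ((Ideal.quotientEquivAlgOfEq k (show RingHom.ker ρ.rangeRestrict = RingHom.ker ρ by
          ext a
          rw [RingHom.mem_ker, RingHom.mem_ker]
          exact Subtype.ext_iff)).toAlgHom.comp
        (Ideal.quotientKerAlgEquivOfSurjective (f := ρ.rangeRestrict) ρ.rangeRestrict_surjective).symm.toAlgHom),
      fun b => ?_⟩
    have e : (Ideal.quotientKerAlgEquivOfSurjective (f := ρ.rangeRestrict) ρ.rangeRestrict_surjective).symm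
        ⟨ρ b, ⟨b, rfl⟩⟩ = Ideal.Quotient.mk _ b := by rw [AlgEquiv.symm_apply_eq]; rfl
    refine (congrArg (fun z => Ideal.Quotient.liftₐ (RingHom.ker ρ) χ' (fun a ha => hfac a ha)
      (Ideal.quotientEquivAlgOfEq k (show RingHom.ker ρ.rangeRestrict = RingHom.ker ρ by
          ext a
          rw [RingHom.mem_ker, RingHom.mem_ker]
          exact Subtype.ext_iff) z)) e).trans ?_
    rfl
  have hχg' : χ'' g' ≠ 0 := by
    have e : g' = ⟨ρ g₁, ⟨g₁, rfl⟩⟩ := Subtype.ext hg₁.symm
    rw [e, hχ'', ne_eq, hχ'0]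
    intro h
    apply hχg
    have h1 : algebraMap B B' g ∈ P' := (sup_le hP'le ((Ideal.span_singleton_le_iff_mem _).2 h)) hgJ
    rwa [← Ideal.mem_comap, hP', RingHom.mem_ker] at h1
  obtain ⟨a, h, hha, Θ, hΘE, hΘC, hΘnc⟩ := hg' χ'' hχg'
  let Θ₁ : B' →ₐ[k] Localization.Away h := Θ.comp ρ.rangeRestrict
  refine ⟨a, h, hha, Θ₁.comp (IsScalarTower.toAlgHom k B B'), fun E hE b => ?_, fun c => ?_, ?_⟩
  · exact ((hΘE E hE (ρ.rangeRestrict (algebraMap B B' b))).trans (hχ'' _)).trans (hχ'χ b)
  · refine (hΘC (ρ.rangeRestrict (jB c)) ⟨c, rfl⟩).trans (congrArg _ ?_)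
    exact (hχ'' _).trans (hχ'χ (j c))
  · by_contra hall
    push Not at hall
    obtain ⟨⟨_, b', rfl⟩, hb'⟩ := hΘnc
    have hh0 : h ≠ 0 := fun h0 => hha (by rw [h0, eval_zero])
    haveI : IsDomain (Localization.Away h) :=
      IsLocalization.isDomain_localization (powers_le_nonZeroDivisors_of_noZeroDivisors hh0)
    have hint : IsIntegral B b' := Algebra.IsIntegral.isIntegral b'
    obtain ⟨P, hPm, hP⟩ := hint
    choose r hr using hall
    let χr : B →+* k := {
      toFun := r
      map_one' := (algebraMap k (Localization.Away h)).injective (by rw [← hr, map_one, map_one])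
      map_mul' := fun x y => (algebraMap k (Localization.Away h)).injective (by rw [← hr, map_mul, map_mul, ← hr, ← hr])
      map_zero' := (algebraMap k (Localization.Away h)).injective (by rw [← hr, map_zero, map_zero])
      map_add' := fun x y => (algebraMap k (Localization.Away h)).injective (by rw [← hr, map_add, map_add, ← hr, ← hr]) }
    have hz : IsIntegral k (Θ₁ b') := by
      refine ⟨P.map χr, hPm.map χr, ?_⟩
      rw [eval₂_map]
      have := congrArg Θ₁.toRingHom hP
      rw [map_zero, hom_eval₂] at this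
      refine Eq.trans ?_ this
      congr 1
      exact RingHom.ext fun b => (hr b).symm
    obtain ⟨s, hs⟩ := eq_algebraMap_of_isIntegral hz
    exact hb' s hs

end Groth.Agent.RuledExcLib
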