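import Groth.Agent.RuledExcLib.Birational
import Groth.Agent.SurfPtBlow.Extend
import Groth.Agent.CastLib.CurveRes
import Groth.Agent.RatCurveBlowLib.Fibre
import Groth.Agent.BirQFLib.Conn
import Groth.Agent.RelPurLib.P1Charts
import Groth.Agent.PurityLib.Normal

/-!
# Rational curves in the exceptional locus of a birational morphism to a regular scheme
-/

set_option autoImplicit false
set_option backward.isDefEq.respectTransparency false
set_option linter.style.haveILetI false
set_option maxHeartbeats 2000000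

universe u

open CategoryTheory CategoryTheory.Limits AlgebraicGeometry TopologicalSpace

noncomputable section

namespace Groth.Agent.RuledExcLib

variable {k : Type u} [Field k]

/-- The exceptional locus. -/
def excSet {Y X : Scheme.{u}} (f : Y ⟶ X) : Set Y := {y | ∀ V : X.Opens, f y ∈ V → ¬ IsIso (f ∣_ V)}

theorem isClosed_excSet {Y X : Scheme.{u}} (f : Y ⟶ X) : IsClosed (excSet f) := by
  rw [← isOpen_compl_iff, isOpen_iff_forall_mem_open]
  intro y hy
  simp only [excSet, Set.mem_compl_iff, Set.mem_setOf_eq, not_forall] at hy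
  obtain ⟨V, hyV, hV⟩ := hy
  exact ⟨(f ⁻¹ᵁ V : Y.Opens), fun z hz h => h V hz (by_contra hV), (f ⁻¹ᵁ V).2, hyV⟩

/-- A morphism on an open piece of the projective line to a proper scheme extends. -/
theorem exists_extend_line [IsAlgClosed k] {Y : Scheme.{u}} (sY : Y ⟶ Spec (CommRingCat.of k)) [IsProper sY]
    (U : (CohB1.ProjSpace 1 k).Opens) (hU : (U : Set (CohB1.ProjSpace 1 k)).Nonempty)
    (φ : U.toScheme ⟶ Y) (hφ : φ ≫ sY = U.ι ≫ CohB1.ProjSpace.toSpec 1 k) :
    ∃ c : CohB1.ProjSpace 1 k ⟶ Y, c ≫ sY = CohB1.ProjSpace.toSpec 1 k ∧ U.ι ≫ c = φ := by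
  let P := CohB1.ProjSpace 1 k
  let p : P ⟶ Spec (CommRingCat.of k) := CohB1.ProjSpace.toSpec 1 k
  haveI : IsNoetherian P :=
    { toIsLocallyNoetherian := LocallyOfFiniteType.isLocallyNoetherian p
      toCompactSpace := QuasiCompact.compactSpace_of_compactSpace p }
  haveI : Smooth p := ProjSmoothLib.smooth_toSpec 1 k
  haveI : Subsingleton ↥(Spec (CommRingCat.of k)) := inferInstanceAs (Subsingleton (PrimeSpectrum k))
  have hreg : ∀ v : P, IsRegularLocalRing (P.presheaf.stalk v) := fun v => by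
    refine BlowChartLib.regular_stalk_of_smooth p v ?_
    rw [Subsingleton.elim (p v) (genericPoint (Spec (CommRingCat.of k)))]
    exact inferInstanceAs (IsRegularLocalRing (Spec (CommRingCat.of k)).functionField)
  have hη : genericPoint P ∈ U := (genericPoint_specializes hU.some).mem_open U.2 hU.some_mem
  let zK : Spec P.functionField ⟶ Y := U.fromSpecStalkOfMem (genericPoint P) hη ≫ φ
  obtain ⟨I, hI, hext⟩ := SurfPtBlow.exists_ideal_extend p sY zK (by
    rw [Category.assoc, hφ, Scheme.Opens.fromSpecStalkOfMem_ι_assoc])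
  have hd : topologicalKrullDim P ≤ 1 := le_of_eq (by exact_mod_cast S10829.result k 1)
  obtain ⟨c, hc, hgen⟩ := hext (𝟙 P) rfl (by
    rw [Scheme.IdealSheafData.comap_id]
    exact CastLib.CurveRes.isEffCartier_of_dimLE_one hreg hd I hI)
  rw [Category.id_comp] at hc
  refine ⟨c, hc, ?_⟩
  have hfun : SurfPtBlow.funMap (𝟙 P) rfl = 𝟙 _ := by
    simp [SurfPtBlow.funMap]
  rw [hfun, Spec.map_id, Category.id_comp] at hgen
  let τ : Spec P.functionField ⟶ (U : Scheme.{u}) := U.fromSpecStalkOfMem (genericPoint P) hη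
  haveI : IsDominant τ := ⟨fun z => by
    refine closure_mono (Set.singleton_subset_iff.2
      (Set.mem_range_self (f := τ) (IsLocalRing.closedPoint P.functionField))) (specializes_iff_mem_closure.1 ?_)
    refine U.ι.isOpenEmbedding.isInducing.specializes_iff.1 ?_
    rw [← Scheme.Hom.comp_apply, Scheme.Opens.fromSpecStalkOfMem_ι, Scheme.fromSpecStalk_closedPoint]
    exact genericPoint_specializes _⟩
  refine ext_of_isDominant_of_isSeparated sY ?_ τ ?_
  · rw [Category.assoc, hc, hφ]
  · rw [Scheme.Opens.fromSpecStalkOfMem_ι_assoc, hgen]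

variable [IsAlgClosed k]

/-- **Rational curves through the general points of a component of the exceptional locus.** -/
theorem exists_lines_through_component {Y X : Scheme.{u}} (sY : Y ⟶ Spec (CommRingCat.of k))
    (sX : X ⟶ Spec (CommRingCat.of k)) [IsProper sY] [IsSeparated sX] [LocallyOfFiniteType sX]
    [IsIntegral Y] [IsIntegral X] (hreg : ∀ x : X, IsRegularLocalRing (X.presheaf.stalk x))
    (f : Y ⟶ X) (hf : f ≫ sX = sY) (hgen : f (genericPoint Y) = genericPoint X)
    (hbir : IsIso (f.stalkMap (genericPoint Y))) (hiso : genericPoint Y ∉ excSet f)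
    (η : Y) (hη : η ∈ excSet f) (hmax : ∀ η' ∈ excSet f, η' ⤳ η → η' = η) :
    ∃ O : Y.Opens, η ∈ O ∧ ∀ y ∈ O, η ⤳ y → IsClosed ({y} : Set Y) →
      ∃ c : CohB1.ProjSpace 1 k ⟶ Y, c ≫ sY = CohB1.ProjSpace.toSpec 1 k ∧
        (¬ ∃ z : Y, Set.range c.base ⊆ {z}) ∧ y ∈ Set.range c.base ∧
        ∃ x : X, Set.range (c ≫ f).base ⊆ {x} := by
  classical
  haveI : IsProper (f ≫ sX) := hf ▸ ‹IsProper sY›
  haveI : IsProper f := IsProper.of_comp f sX
  haveI hnorm : ∀ x : X, IsIntegrallyClosed (X.presheaf.stalk x) := fun x => by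
    haveI := hreg x
    exact (PurityLib.isIntegrallyClosed_of_regular _).2
  haveI : IsLocallyNoetherian Y := LocallyOfFiniteType.isLocallyNoetherian sY
  haveI : IsLocallyNoetherian X := LocallyOfFiniteType.isLocallyNoetherian sX
  obtain ⟨V, hV, hfV, -⟩ := exists_isAffineOpen_mem_and_subset (X := X) (U := ⊤) (x := f η) trivial
  obtain ⟨U, hU, hηU, hUV⟩ := exists_isAffineOpen_mem_and_subset (X := Y) (U := f ⁻¹ᵁ V) (x := η) hfV
  haveI : Nonempty U := ⟨⟨η, hηU⟩⟩
  haveI : Nonempty V := ⟨⟨f η, hfV⟩⟩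
  let B := Γ(Y, U)
  let C := Γ(X, V)
  let K := Y.functionField
  haveI : IsFractionRing B K := functionField_isFractionRing_of_isAffineOpen Y U hU
  haveI : IsFractionRing C X.functionField := functionField_isFractionRing_of_isAffineOpen X V hV
  -- the structure over the field
  let βB : CommRingCat.of k ⟶ B := Spec.preimage (hU.fromSpec ≫ sY)
  let βC : CommRingCat.of k ⟶ C := Spec.preimage (hV.fromSpec ≫ sX)
  have hβB : Spec.map βB = hU.fromSpec ≫ sY := Spec.map_preimage _
  have hβC : Spec.map βC = hV.fromSpec ≫ sX := Spec.map_preimage _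
  letI algB : Algebra k B := βB.hom.toAlgebra
  letI algC : Algebra k C := βC.hom.toAlgebra
  haveI hftB : Algebra.FiniteType k B := by
    have h1 : LocallyOfFiniteType (Spec.map βB) := by rw [hβB]; infer_instance
    exact RingHom.finiteType_algebraMap.1 ((HasRingHomProperty.Spec_iff (P := @LocallyOfFiniteType)).1 h1)
  haveI hftC : Algebra.FiniteType k C := by
    have h1 : LocallyOfFiniteType (Spec.map βC) := by rw [hβC]; infer_instance
    exact RingHom.finiteType_algebraMap.1 ((HasRingHomProperty.Spec_iff (P := @LocallyOfFiniteType)).1 h1)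
  let j₀ : C ⟶ B := f.appLE V U hUV
  have hj₀ : Spec.map j₀ ≫ hV.fromSpec = hU.fromSpec ≫ f := IsAffineOpen.SpecMap_appLE_fromSpec f hV hU hUV
  have hβ : βC ≫ j₀ = βB := Spec.map_injective (by rw [Spec.map_comp, hβC, hβB, reassoc_of% hj₀, hf])
  let j : C →ₐ[k] B := { j₀.hom with commutes' := fun r => congr($hβ r) }
  letI algCK : Algebra C K := ((algebraMap B K).comp j₀.hom).toAlgebra
  have hj : ∀ c, algebraMap B K (j c) = algebraMap C K c := fun c => rfl
  -- birationality
  haveI := hbir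
  haveI : IsIso (X.presheaf.stalkSpecializes (specializes_of_eq hgen)) :=
    ⟨X.presheaf.stalkSpecializes (specializes_of_eq hgen.symm), by simp, by simp⟩
  haveI : IsIso (SurfPtBlow.funMap f hgen) := IsIso.comp_isIso' inferInstance inferInstance
  let eK : X.functionField ≃+* K := (asIso (SurfPtBlow.funMap f hgen)).commRingCatIsoToRingEquiv
  have heK : ∀ c : C, eK (algebraMap C X.functionField c) = algebraMap C K c := fun c => by
    show SurfPtBlow.funMap f hgen (X.germToFunctionField V c) = Y.germToFunctionField U (j₀ c)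
    show f.stalkMap (genericPoint Y) (X.presheaf.stalkSpecializes _ (X.presheaf.germ V _ _ c)) = _
    rw [TopCat.Presheaf.germ_stalkSpecializes_apply, Scheme.Hom.germ_stalkMap_apply]
    exact (TopCat.Presheaf.germ_res_apply Y.presheaf (homOfLE hUV) _ _ _).symm
  haveI : IsFractionRing C K := by
    let eA : X.functionField ≃ₐ[C] K := AlgEquiv.ofRingEquiv (f := eK) heK
    exact IsLocalization.isLocalization_of_algEquiv _ eA
  have hinjC : Function.Injective (algebraMap C K) := IsFractionRing.injective C K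
  have hinjB : Function.Injective (algebraMap B K) := IsFractionRing.injective B K
  have hinjj : Function.Injective j := fun a b h => hinjC (by rw [← hj, ← hj, h])
  -- the prime
  let p : Ideal B := (hU.primeIdealOf ⟨η, hηU⟩).asIdeal
  haveI : p.IsPrime := (hU.primeIdealOf ⟨η, hηU⟩).2
  let q : Ideal C := p.comap j.toRingHom
  have hq' : q = (hV.primeIdealOf ⟨f η, hfV⟩).asIdeal :=
    congrArg PrimeSpectrum.asIdeal (IsAffineOpen.comap_primeIdealOf_appLE V hV U hU hUV hηU)
  haveI : q.IsPrime := Ideal.IsPrime.comap _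
  letI := TopCat.Presheaf.algebra_section_stalk X.presheaf (⟨f η, hfV⟩ : V)
  haveI hstalkq : IsLocalization.AtPrime (X.presheaf.stalk (⟨f η, hfV⟩ : V).1) q := by
    have e : q.primeCompl = (hV.primeIdealOf ⟨f η, hfV⟩).asIdeal.primeCompl :=
      Submonoid.ext fun z => not_congr (SetLike.ext_iff.1 hq' z)
    show IsLocalization q.primeCompl _
    rw [e]
    exact hV.isLocalization_stalk ⟨f η, hfV⟩
  haveI hregq : IsRegularLocalRing (Localization.AtPrime q) := by
    haveI := hreg (f η)
    exact IsRegularLocalRing.of_ringEquiv (R := X.presheaf.stalk (⟨f η, hfV⟩ : V).1)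
      (IsLocalization.algEquiv q.primeCompl (X.presheaf.stalk (⟨f η, hfV⟩ : V).1) (Localization.AtPrime q)).toRingEquiv
  have hprimeOf : ∀ (P : PrimeSpectrum B) (h : hU.fromSpec P ∈ U),
      (hU.primeIdealOf ⟨hU.fromSpec P, h⟩) = P := fun P h =>
    hU.fromSpec.isOpenEmbedding.injective (hU.fromSpec_primeIdealOf ⟨hU.fromSpec P, h⟩)
  have hmemU : ∀ P : PrimeSpectrum B, hU.fromSpec P ∈ U := fun P =>
    hU.range_fromSpec.le ⟨P, rfl⟩
  -- local isomorphisms at non-exceptional points, in rings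
  have hnonexc : ∀ P : PrimeSpectrum B, hU.fromSpec P ∉ excSet f →
      ∀ b : B, ∃ c s : C, j s ∉ P.asIdeal ∧ b * j s = j c := by
    intro P hP b
    simp only [excSet, Set.mem_setOf_eq, not_forall] at hP
    obtain ⟨W, hW, hWiso⟩ := hP
    have hWiso' : IsIso (f ∣_ W) := by_contra hWiso
    set y := hU.fromSpec P with hy
    haveI : IsIso (f.stalkMap y) := by
      haveI := hWiso'
      exact (MorphismProperty.isomorphisms CommRingCat).arrow_mk_iso_iff (morphismRestrictStalkMap f W ⟨y, hW⟩)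
        |>.1 (inferInstanceAs (IsIso ((f ∣_ W).stalkMap ⟨y, hW⟩)))
    have hyU : y ∈ U := hmemU P
    letI := TopCat.Presheaf.algebra_section_stalk X.presheaf (⟨f y, hUV hyU⟩ : V)
    haveI := hV.isLocalization_stalk ⟨f y, hUV hyU⟩
    obtain ⟨w, hw⟩ := (ConcreteCategory.bijective_of_isIso (f.stalkMap y)).2 (Y.presheaf.germ U y hyU b)
    obtain ⟨⟨c, s⟩, hcs⟩ := IsLocalization.surj (hV.primeIdealOf ⟨f y, hUV hyU⟩).asIdeal.primeCompl
      (show X.presheaf.stalk (⟨f y, hUV hyU⟩ : V).1 from w)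
    refine ⟨c, s, fun hs => s.2 ?_, ?_⟩
    · have h1 := congrArg PrimeSpectrum.asIdeal (IsAffineOpen.comap_primeIdealOf_appLE V hV U hU hUV hyU)
      rw [hprimeOf P hyU] at h1
      exact h1.le hs
    · have h1 : ∀ a : C, f.stalkMap y (X.presheaf.germ V (f y) (hUV hyU) a) = Y.presheaf.germ U y hyU (j a) := fun a => by
        rw [Scheme.Hom.germ_stalkMap_apply]
        exact (TopCat.Presheaf.germ_res_apply Y.presheaf (homOfLE hUV) _ _ _).symm
      refine germ_injective_of_isIntegral Y y hyU ?_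
      rw [map_mul, ← h1, ← h1, ← hw, ← map_mul]
      exact congrArg (f.stalkMap y) hcs
  have hp0 : p ≠ ⊥ := fun h => by
    refine hiso ?_
    have hle : ∀ P : PrimeSpectrum B, hU.primeIdealOf ⟨η, hηU⟩ ≤ P := fun P => show p ≤ _ from h ▸ bot_le
    have h1 : η ⤳ genericPoint Y := by
      have hgU : genericPoint Y ∈ U := (genericPoint_specializes η).mem_open U.2 hηU
      have h2 := ((PrimeSpectrum.le_iff_specializes _ _).1 (hle (hU.primeIdealOf ⟨_, hgU⟩))).map hU.fromSpec.continuous
      rwa [hU.fromSpec_primeIdealOf, hU.fromSpec_primeIdealOf] at h2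
    exact h1.mem_closed (isClosed_excSet f) hη
  -- the stalk map at the point is not an isomorphism
  obtain ⟨b₀, hb₀⟩ : ∃ b₀ : B, ∀ c s : C, j s ∉ p → b₀ * j s ≠ j c := by
    by_contra hall
    push Not at hall
    have hst : Function.Bijective (f.stalkMap η) := by
      refine ⟨fun a a' haa => ?_, fun w => ?_⟩
      · refine (IsFractionRing.injective (X.presheaf.stalk (f η)) X.functionField)
          ((SurfPtBlow.funMap f hgen).hom.injective ?_)
        rw [SurfPtBlow.funMap_stalk f hgen η a, SurfPtBlow.funMap_stalk f hgen η a']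
        exact congrArg _ haa
      letI := TopCat.Presheaf.algebra_section_stalk Y.presheaf (⟨η, hηU⟩ : U)
      haveI := hU.isLocalization_stalk ⟨η, hηU⟩
      obtain ⟨⟨b, u⟩, hbu⟩ := IsLocalization.surj p.primeCompl (show Y.presheaf.stalk (⟨η, hηU⟩ : U).1 from w)
      have h1 : ∀ a : C, f.stalkMap η (X.presheaf.germ V (f η) hfV a) = Y.presheaf.germ U η hηU (j a) := fun a => by
        rw [Scheme.Hom.germ_stalkMap_apply]
        exact (TopCat.Presheaf.germ_res_apply Y.presheaf (homOfLE hUV) _ _ _).symm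
      obtain ⟨c, s, hs, hcs⟩ := hall b
      obtain ⟨d, t, ht, hdt⟩ := hall u
      have hsu : IsUnit (X.presheaf.germ V (f η) hfV (s * d)) := by
        letI := TopCat.Presheaf.algebra_section_stalk X.presheaf (⟨f η, hfV⟩ : V)
        refine IsLocalization.map_units (M := q.primeCompl) (X.presheaf.stalk (⟨f η, hfV⟩ : V).1) ⟨s * d, ?_⟩
        intro hsd
        have h2 : j s * (u * j t) ∈ p := by rw [hdt, ← map_mul]; exact hsd
        rcases Ideal.IsPrime.mem_or_mem inferInstance h2 with h3 | h3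
        · exact hs h3
        rcases Ideal.IsPrime.mem_or_mem inferInstance h3 with h4 | h4
        · exact u.2 h4
        · exact ht h4
      obtain ⟨v, hv⟩ := hsu
      refine ⟨X.presheaf.germ V (f η) hfV (c * t) * ↑v⁻¹, ?_⟩
      have hnz : IsUnit (f.stalkMap η (v : X.presheaf.stalk (f η))) := v.isUnit.map _
      refine hnz.mul_right_cancel ?_
      rw [← map_mul, mul_assoc, Units.inv_mul, mul_one, hv, h1, h1]
      have hw : w * Y.presheaf.germ U η hηU (u : B) = Y.presheaf.germ U η hηU b := hbu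
      rw [map_mul, map_mul, map_mul, map_mul, ← hcs, ← hdt, map_mul, map_mul, ← hw]
      ring
    haveI : IsIso (f.stalkMap η) := (ConcreteCategory.isIso_iff_bijective _).2 hst
    have hqf : f.QuasiFiniteAt η := RingHom.QuasiFinite.of_finite (RingHom.Finite.of_surjective _ hst.2)
    obtain ⟨W, hW, hWiso⟩ := BirQFLib.exists_nhd_isIso_of_normal_stalk f hgen hbir η (hnorm _) hqf
    exact hη W hW hWiso
  -- the reduced fraction
  let R := Localization.AtPrime q
  haveI : IsDomain R := RegLocal.isDomain R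
  haveI : UniqueFactorizationMonoid R := RegLocal.ufd R
  have hqK : ∀ s : q.primeCompl, IsUnit (algebraMap C K s) := fun s =>
    isUnit_iff_ne_zero.2 fun h => s.2 ((hinjC (h.trans (map_zero _).symm)).symm ▸ q.zero_mem)
  letI algRK : Algebra R K := (IsLocalization.lift hqK).toAlgebra
  haveI : IsScalarTower C R K := IsScalarTower.of_algebraMap_eq fun c => (IsLocalization.lift_eq hqK c).symm
  haveI : IsFractionRing R K := IsFractionRing.isFractionRing_of_isDomain_of_isLocalization q.primeCompl R K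
  obtain ⟨cR, sR, hrel, hbR⟩ := IsFractionRing.exists_reduced_fraction (A := R) (K := K) (algebraMap B K b₀)
  obtain ⟨⟨c₀, u₁⟩, hc₀⟩ := IsLocalization.surj q.primeCompl cR
  obtain ⟨⟨s₀, u₂⟩, hs₀⟩ := IsLocalization.surj q.primeCompl (sR : R)
  have hu₁ : j (u₁ : C) ∉ p := u₁.2
  have hu₂ : j (u₂ : C) ∉ p := u₂.2
  have hsR0 : algebraMap R K sR ≠ 0 := IsFractionRing.to_map_ne_zero_of_mem_nonZeroDivisors sR.2
  have hmul : b₀ * j (s₀ * u₁) = j (c₀ * u₂) := by
    refine hinjB ?_
    rw [map_mul, hj, hj, map_mul, map_mul, IsScalarTower.algebraMap_apply C R K s₀,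
      IsScalarTower.algebraMap_apply C R K c₀, ← hs₀, ← hc₀, map_mul, map_mul,
      ← IsScalarTower.algebraMap_apply, ← IsScalarTower.algebraMap_apply, ← hbR, IsFractionRing.mk'_eq_div]
    rw [← mul_assoc, ← mul_assoc, div_mul_cancel₀ _ hsR0]
    ring
  have hs₀p : j s₀ ∈ p := by
    by_contra hs
    refine hb₀ (c₀ * u₂) (s₀ * u₁) ?_ hmul
    rw [map_mul]
    exact fun h => (Ideal.IsPrime.mem_or_mem inferInstance h).elim hs hu₁
  have hs₀0 : j s₀ ≠ 0 := fun h => by
    have h1 : s₀ = 0 := hinjj (h.trans (map_zero _).symm)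
    rw [h1, map_zero] at hs₀
    rcases mul_eq_zero.1 hs₀ with h2 | h2
    · exact nonZeroDivisors.ne_zero sR.2 h2
    · exact u₂.2 ((IsLocalization.injective R q.primeCompl_le_nonZeroDivisors
        (h2.trans (map_zero _).symm)).symm ▸ q.zero_mem)
  have hminP : ∀ P : Ideal B, P.IsPrime → P ≤ p → j s₀ ∈ P → P = p := by
    intro P hP hle hsP
    by_contra hne
    let Pp : PrimeSpectrum B := ⟨P, hP⟩
    have hsp : hU.fromSpec Pp ⤳ η := by
      have h2 := ((PrimeSpectrum.le_iff_specializes Pp (hU.primeIdealOf ⟨η, hηU⟩)).1 hle).map hU.fromSpec.continuous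
      rwa [hU.fromSpec_primeIdealOf] at h2
    have hnot : hU.fromSpec Pp ∉ excSet f := fun hexc => hne (by
      have h3 := hmax _ hexc hsp
      have h4 := hprimeOf Pp (hmemU Pp)
      have h5 : (⟨hU.fromSpec Pp, hmemU Pp⟩ : U) = ⟨η, hηU⟩ := Subtype.ext h3
      rw [h5] at h4
      exact (congrArg PrimeSpectrum.asIdeal h4).symm)
    obtain ⟨c₂, s₂, hs₂, hcs₂⟩ := hnonexc Pp hnot b₀
    have hC : c₀ * u₂ * s₂ = c₂ * (s₀ * u₁) := hinjj (by
      rw [map_mul j (c₀ * u₂) s₂, map_mul j c₂ (s₀ * u₁), ← hmul, ← hcs₂]; ring)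
    have hR : cR * algebraMap C R s₂ = algebraMap C R c₂ * (sR : R) := by
      have h1 := congrArg (algebraMap C R) hC
      simp only [map_mul, ← hc₀, ← hs₀] at h1
      have h2 : IsUnit (algebraMap C R (u₁ : C) * algebraMap C R (u₂ : C)) :=
        (IsLocalization.map_units R u₁).mul (IsLocalization.map_units R u₂)
      refine h2.mul_right_cancel ?_
      linear_combination h1
    obtain ⟨r, hr⟩ : (sR : R) ∣ algebraMap C R s₂ := hrel.symm.dvd_of_dvd_mul_left ⟨algebraMap C R c₂, by rw [hR, mul_comm]⟩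
    obtain ⟨⟨d, u⟩, hd⟩ := IsLocalization.surj q.primeCompl r
    have h1 : algebraMap C R (s₂ * u₂ * u) = algebraMap C R (s₀ * d) := by
      rw [map_mul, map_mul, map_mul, ← hd, ← hs₀, hr]; ring
    have h2 := IsLocalization.injective R q.primeCompl_le_nonZeroDivisors h1
    have h3 : j s₂ * j (u₂ : C) * j (u : C) ∈ P := by
      rw [← map_mul, ← map_mul, h2, map_mul]; exact P.mul_mem_right _ hsP
    rcases hP.mem_or_mem h3 with h4 | h4
    · rcases hP.mem_or_mem h4 with h5 | h5
      · exact hs₂ h5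
      · exact hu₂ (hle h5)
    · exact (show j (u : C) ∉ p from u.2) (hle h4)
  haveI : IsNoetherianRing B := Algebra.FiniteType.isNoetherianRing k B
  have hp1 : ∀ P : Ideal B, P.IsPrime → P ≤ p → P ≠ ⊥ → P = p := by
    intro P hP hle hP0
    by_contra hne
    have hmem : p ∈ (Ideal.span {j s₀}).minimalPrimes :=
      ⟨⟨inferInstance, (Ideal.span_singleton_le_iff_mem _).2 hs₀p⟩, fun Q ⟨hQ, hQs⟩ hQp =>
        (hminP Q hQ hQp ((Ideal.span_singleton_le_iff_mem _).1 hQs)).ge⟩
    have h1 : p.height ≤ 1 := Ideal.height_le_one_of_isPrincipal_of_mem_minimalPrimes _ _ hmem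
    haveI := hP
    have h2 : P.height < p.height := Ideal.height_strict_mono_of_isPrime_of_isPrime (lt_of_le_of_ne hle hne)
    have h3 : (⊥ : Ideal B).height < P.height := Ideal.height_strict_mono_of_isPrime_of_isPrime (bot_lt_iff_ne_bot.2 hP0)
    have h4 : (1 : ℕ∞) ≤ P.height := Order.one_le_iff_pos.2 (lt_of_le_of_lt bot_le h3)
    exact absurd (h2.trans_le h1) (not_lt.2 h4)
  have hq : ∃ Q : Ideal C, Q.IsPrime ∧ Q ≠ ⊥ ∧ Q < q := by
    have hsm : ¬ IsUnit (sR : R) := fun h => by
      have h1 : IsUnit (algebraMap C R s₀) := hs₀ ▸ h.mul (IsLocalization.map_units R u₂)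
      exact (IsLocalization.AtPrime.isUnit_to_map_iff R q s₀).1 h1 hs₀p
    obtain ⟨π, hπirr, hπdvd⟩ := WfDvdMonoid.exists_irreducible_factor hsm (nonZeroDivisors.ne_zero sR.2)
    haveI : (Ideal.span {π}).IsPrime := (Ideal.span_singleton_prime hπirr.ne_zero).2 hπirr.prime
    refine ⟨(Ideal.span {π}).comap (algebraMap C R), Ideal.IsPrime.comap _, fun h => ?_, ?_⟩
    · have h1 := IsLocalization.map_comap q.primeCompl R (Ideal.span {π})
      rw [show Ideal.under C (Ideal.span {π}) = ⊥ from h, Ideal.map_bot] at h1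
      exact hπirr.ne_zero (Ideal.span_singleton_eq_bot.1 h1.symm)
    · have hle : (Ideal.span {π}).comap (algebraMap C R) ≤ q := fun x hx => by
        by_contra hxq
        exact (Ideal.IsPrime.ne_top ‹(Ideal.span {π}).IsPrime›) (Ideal.eq_top_of_isUnit_mem _ hx
          (IsLocalization.map_units R (⟨x, hxq⟩ : q.primeCompl)))
      refine lt_of_le_of_ne hle fun heq => ?_
      have hcπ : cR ∈ Ideal.span {π} := by
        have h0 : j c₀ * j (u₂ : C) ∈ p := by
          rw [← map_mul, ← hmul]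
          exact p.mul_mem_left _ (by rw [map_mul]; exact p.mul_mem_right _ hs₀p)
        have h1 : c₀ ∈ (Ideal.span {π}).comap (algebraMap C R) :=
          heq.symm ▸ ((Ideal.IsPrime.mem_or_mem inferInstance h0).resolve_right hu₂ : j c₀ ∈ p)
        rw [Ideal.mem_comap, ← hc₀] at h1
        exact ((Ideal.IsPrime.mem_or_mem inferInstance h1)).resolve_right fun h2 =>
          (Ideal.IsPrime.ne_top inferInstance) (Ideal.eq_top_of_isUnit_mem _ h2 (IsLocalization.map_units R u₁))
      exact hπirr.not_isUnit (hrel (Ideal.mem_span_singleton.1 hcπ) hπdvd)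
  obtain ⟨g, hgp, harc⟩ := exists_arcs_of_birational j hj p hp0 hp1 hregq hq
  have hηg : η ∈ Y.basicOpen g := by
    have h1 : hU.primeIdealOf ⟨η, hηU⟩ ∈ hU.fromSpec ⁻¹ᵁ Y.basicOpen g := by
      rw [hU.fromSpec_preimage_basicOpen]
      exact hgp
    have h2 : hU.fromSpec (hU.primeIdealOf ⟨η, hηU⟩) = η := hU.fromSpec_primeIdealOf ⟨η, hηU⟩
    replace h1 : hU.fromSpec (hU.primeIdealOf ⟨η, hηU⟩) ∈ Y.basicOpen g := h1
    rwa [h2] at h1
  refine ⟨Y.basicOpen g, hηg, fun y hy hspec hyc => ?_⟩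
  have hyU : y ∈ U := Y.basicOpen_le g hy
  set m := hU.primeIdealOf ⟨y, hyU⟩ with hm
  have hmy : hU.fromSpec m = y := hU.fromSpec_primeIdealOf ⟨y, hyU⟩
  have hmc : IsClosed ({m} : Set (PrimeSpectrum B)) := by
    have : hU.fromSpec.base ⁻¹' {y} = {m} := by
      ext z
      exact ⟨fun hz => hU.fromSpec.isOpenEmbedding.injective ((show hU.fromSpec z = y from hz).trans hmy.symm),
        fun hz => by rw [Set.mem_singleton_iff.1 hz]; exact hmy⟩
    rw [← this]
    exact hyc.preimage hU.fromSpec.continuous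
  haveI : m.asIdeal.IsMaximal := (PrimeSpectrum.isClosed_singleton_iff_isMaximal m).1 hmc
  letI : Field (B ⧸ m.asIdeal) := Ideal.Quotient.field m.asIdeal
  haveI : Module.Finite k (B ⧸ m.asIdeal) := finite_of_finite_type_of_isJacobsonRing k (B ⧸ m.asIdeal)
  let eχ : k ≃ₐ[k] B ⧸ m.asIdeal :=
    AlgEquiv.ofBijective (Algebra.ofId k (B ⧸ m.asIdeal)) IsAlgClosed.algebraMap_bijective_of_isIntegral
  let χ : B →ₐ[k] k := eχ.symm.toAlgHom.comp (Ideal.Quotient.mkₐ k m.asIdeal)
  have hχ0 : ∀ b, χ b = 0 ↔ b ∈ m.asIdeal := fun b => by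
    show eχ.symm (Ideal.Quotient.mk m.asIdeal b) = 0 ↔ _
    rw [EmbeddingLike.map_eq_zero_iff, Ideal.Quotient.eq_zero_iff_mem]
  have hpm : p ≤ m.asIdeal := by
    have h1 : hU.primeIdealOf ⟨η, hηU⟩ ⤳ m := by
      refine hU.fromSpec.isOpenEmbedding.isInducing.specializes_iff.1 ?_
      rw [hU.fromSpec_primeIdealOf, hmy]
      exact hspec
    exact (PrimeSpectrum.le_iff_specializes _ _).2 h1
  obtain ⟨a, h, hha, Θ, hΘE, hΘC, b₁, hb₁⟩ := harc χ (fun b hb => (hχ0 b).2 (hpm hb)) (fun hg0 => by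
    have h1 : m ∈ hU.fromSpec ⁻¹ᵁ Y.basicOpen g := show hU.fromSpec m ∈ _ from hmy.symm ▸ hy
    rw [hU.fromSpec_preimage_basicOpen] at h1
    exact h1 ((hχ0 g).1 hg0))
  -- the arc and its completion
  let S := Localization.Away h
  let ψ : Spec (CommRingCat.of S) ⟶ Y := Spec.map (CommRingCat.ofHom Θ.toRingHom) ≫ hU.fromSpec
  let i : Spec (CommRingCat.of S) ⟶ CohB1.ProjSpace 1 k :=
    Spec.map (CommRingCat.ofHom (algebraMap (Polynomial k) S)) ≫ RelPurLib.chart k 0
  haveI : IsOpenImmersion (Spec.map (CommRingCat.ofHom (algebraMap (Polynomial k) S))) :=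
    IsOpenImmersion.of_isLocalization h
  haveI : IsOpenImmersion i := inferInstance
  let ε : Spec (CommRingCat.of k) ⟶ Spec (CommRingCat.of S) := Spec.map (CommRingCat.ofHom
    (IsLocalization.lift (M := Submonoid.powers h) (g := (Polynomial.evalRingHom a : Polynomial k →+* k))
      (fun ⟨_, n, hn⟩ => by subst hn; simpa using (isUnit_iff_ne_zero.2 hha).pow n) : S →+* k))
  have hψY : ψ ≫ sY = i ≫ CohB1.ProjSpace.toSpec 1 k := by
    simp only [ψ, i, Category.assoc, ← hβB, RelPurLib.chart_toSpec, ← Spec.map_comp]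
    congr 1
    exact CommRingCat.hom_ext (RingHom.ext fun r => Θ.commutes r)
  have hmem' : (i.opensRange : Set (CohB1.ProjSpace 1 k)).Nonempty := ⟨_, ε (IsLocalRing.closedPoint k), rfl⟩
  obtain ⟨c, hc, hcι⟩ := exists_extend_line sY i.opensRange hmem' (i.isoOpensRange.inv ≫ ψ) (by
    rw [Category.assoc, hψY, Scheme.Hom.isoOpensRange_inv_comp_assoc])
  have hic : i ≫ c = ψ := by
    rw [← i.isoOpensRange_hom_ι, Category.assoc, hcι, Iso.hom_inv_id_assoc]
  have hyv : ψ (ε (IsLocalRing.closedPoint k)) = y := by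
    let E : S →ₐ[k] k := IsLocalization.liftAlgHom (M := Submonoid.powers h) (f := Polynomial.aeval a)
      (fun ⟨_, n, hn⟩ => by subst hn; simpa [Polynomial.coe_aeval_eq_eval] using (isUnit_iff_ne_zero.2 hha).pow n)
    have hE : ∀ P : Polynomial k, E (algebraMap _ _ P) = P.eval a := fun P =>
      (IsLocalization.lift_eq _ P).trans (congrFun (Polynomial.coe_aeval_eq_eval a) P)
    have hεE : ε = Spec.map (CommRingCat.ofHom E.toRingHom) := by
      refine congrArg (fun e => Spec.map (CommRingCat.ofHom e)) ?_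
      refine IsLocalization.ringHom_ext (Submonoid.powers h) (RingHom.ext fun P => ?_)
      exact (IsLocalization.lift_eq _ P).trans (hE P).symm
    rw [← hmy]
    show hU.fromSpec (Spec.map (CommRingCat.ofHom Θ.toRingHom) (ε (IsLocalRing.closedPoint k))) = _
    refine congrArg hU.fromSpec.base (PrimeSpectrum.ext ?_)
    rw [hεE]
    ext b
    show E (Θ b) ∈ IsLocalRing.maximalIdeal k ↔ _
    rw [IsLocalRing.maximalIdeal_eq_bot, Ideal.mem_bot, hΘE E hE, hχ0]
  refine ⟨c, hc, ?_, ⟨i (ε (IsLocalRing.closedPoint k)), by rw [← Scheme.Hom.comp_apply, hic, hyv]⟩, f y, ?_⟩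
  · rintro ⟨z, hz⟩
    have hzy : z = y := (hz ⟨i (ε (IsLocalRing.closedPoint k)), by rw [← Scheme.Hom.comp_apply, hic, hyv]⟩).symm
    haveI : IsDomain S :=
      IsLocalization.isDomain_localization (powers_le_nonZeroDivisors_of_noZeroDivisors
        (fun h0 => hha (by rw [h0, Polynomial.eval_zero])))
    let o : PrimeSpectrum S := ⟨⊥, Ideal.isPrime_bot⟩
    have h1 : Spec.map (CommRingCat.ofHom Θ.toRingHom) o = m := by
      refine hU.fromSpec.isOpenEmbedding.injective ?_
      rw [hmy]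
      show ψ o = y
      rw [← hic, Scheme.Hom.comp_apply, ← hzy]
      exact hz ⟨i o, rfl⟩
    have h2 : RingHom.ker Θ.toRingHom = m.asIdeal := by
      rw [RingHom.ker_eq_comap_bot]
      exact congrArg PrimeSpectrum.asIdeal h1
    refine hb₁ (χ b₁) ?_
    have h3 : b₁ - algebraMap k B (χ b₁) ∈ RingHom.ker Θ.toRingHom := by
      rw [h2, ← hχ0, map_sub, AlgHom.commutes]; exact sub_self _
    rw [RingHom.mem_ker, map_sub, sub_eq_zero] at h3
    exact h3.trans (Θ.commutes _)
  · haveI : IsIntegral (CohB1.ProjSpace 1 k) := inferInstance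
    have hcomp : ψ ≫ f = Spec.map (CommRingCat.ofHom (algebraMap k S)) ≫
        (Spec.map (CommRingCat.ofHom ((χ.comp j).toRingHom)) ≫ hV.fromSpec) := by
      simp only [ψ, Category.assoc, ← hj₀]
      rw [← Spec.map_comp_assoc, ← Spec.map_comp_assoc]
      congr 2
      exact CommRingCat.hom_ext (RingHom.ext fun d => hΘC d)
    have hxc : IsClosed ({f y} : Set X) := by
      rw [← Set.image_singleton]
      exact f.isClosedMap _ hyc
    have hall : ∀ v, (ψ ≫ f) v = f y := by
      intro v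
      haveI : Subsingleton ↥(Spec (CommRingCat.of k)) := inferInstanceAs (Subsingleton (PrimeSpectrum k))
      rw [← hyv, ← Scheme.Hom.comp_apply ψ f, hcomp]
      simp only [Scheme.Hom.comp_apply]
      exact congrArg _ (congrArg _ (Subsingleton.elim _ _))
    intro x hx
    obtain ⟨v, rfl⟩ := hx
    have hd : Dense (i.opensRange : Set (CohB1.ProjSpace 1 k)) := i.opensRange.2.dense hmem'
    have h1 : (c ≫ f) v ∈ closure ({f y} : Set X) :=
      map_mem_closure (c ≫ f).continuous (hd v) fun w hw => by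
        obtain ⟨v', rfl⟩ := hw
        show (c ≫ f) (i v') = f y
        rw [← Scheme.Hom.comp_apply i (c ≫ f), reassoc_of% hic]
        exact hall v'
    rwa [hxc.closure_eq] at h1

end Groth.Agent.RuledExcLib
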