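import Groth.Agent.RuledExcLib.Exceptional
import Groth.Agent.RatDivLib.Closure

/-!
# Exceptional loci and rational maps to schemes without rational curves
-/

set_option autoImplicit false
set_option backward.isDefEq.respectTransparency false
set_option linter.style.haveILetI false
set_option maxHeartbeats 1000000

universe u

open CategoryTheory CategoryTheory.Limits AlgebraicGeometry TopologicalSpace

noncomputable section

namespace Groth.Agent.RuledExcLib

/-- A closed subset has finitely many maximal points, and they generate it. -/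
theorem exists_maximal_points {Y : Scheme.{u}} [NoetherianSpace Y] {E : Set Y} (hE : IsClosed E) :
    {η | η ∈ E ∧ ∀ η' ∈ E, η' ⤳ η → η' = η}.Finite ∧
      ∀ y ∈ E, ∃ η, (η ∈ E ∧ ∀ η' ∈ E, η' ⤳ η → η' = η) ∧ η ⤳ y := by
  classical
  obtain ⟨S, hS, hcl, hirr, hEU⟩ := NoetherianSpace.exists_finite_set_isClosed_irreducible hE
  by_cases hne : Nonempty Y
  swap
  · exact ⟨(Set.finite_empty).subset fun η _ => hne ⟨η⟩, fun y _ => (hne ⟨y⟩).elim⟩
  have hgen : ∀ t ∈ S, ∃ η, IsGenericPoint η t := fun t ht => QuasiSober.sober (hirr t ht) (hcl t ht)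
  choose! gen hgen using hgen
  have hmem : ∀ t ∈ S, gen t ∈ E := fun t ht => hEU.symm ▸ Set.mem_sUnion.2 ⟨t, ht, (hgen t ht).mem⟩
  refine ⟨(hS.image gen).subset ?_, fun y hy => ?_⟩
  · rintro η ⟨hη, hmax⟩
    obtain ⟨t, ht, hηt⟩ := Set.mem_sUnion.1 (hEU ▸ hη)
    exact ⟨t, ht, hmax _ (hmem t ht) ((hgen t ht).specializes hηt)⟩
  · obtain ⟨t₀, ht₀, hyt₀⟩ := Set.mem_sUnion.1 (hEU ▸ hy)
    obtain ⟨t, ht, hmax⟩ := (hS.subset (Set.sep_subset S fun t => y ∈ t)).exists_maximal ⟨t₀, ht₀, hyt₀⟩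
    refine ⟨gen t, ⟨hmem t ht.1, fun η' hη' hsp => ?_⟩, (hgen t ht.1).specializes ht.2⟩
    obtain ⟨t', ht', hηt'⟩ := Set.mem_sUnion.1 (hEU ▸ hη')
    have hle : t ⊆ t' := fun z hz =>
      (hsp.trans ((hgen t ht.1).specializes hz)).mem_closed (hcl t' ht') hηt'
    have heq : t' ⊆ t := hmax ⟨ht', hle ht.2⟩ hle
    exact (hsp.antisymm ((hgen t ht.1).specializes (heq hηt'))).eq

variable {k : Type u} [Field k] [IsAlgClosed k]

/-- **Rational maps from regular proper schemes to proper schemes without rational curves are morphisms.** -/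
theorem exists_extension_of_no_lines {X Y : Scheme.{u}} (sX : X ⟶ Spec (CommRingCat.of k))
    (sY : Y ⟶ Spec (CommRingCat.of k)) [IsProper sX] [IsProper sY] [IsIntegral X]
    (hreg : ∀ x : X, IsRegularLocalRing (X.presheaf.stalk x))
    (hnorat : ∀ c : CohB1.ProjSpace 1 k ⟶ Y, c ≫ sY = CohB1.ProjSpace.toSpec 1 k → ∃ y : Y, Set.range c.base ⊆ {y})
    (U : X.Opens) (hU : (U : Set X).Nonempty) (g : (U : Scheme.{u}) ⟶ Y) (hg : g ≫ sY = U.ι ≫ sX) :
    ∃ g' : X ⟶ Y, U.ι ≫ g' = g ∧ g' ≫ sY = sX := by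
  haveI : IsProper (pullback.fst sX sY) := inferInstance
  obtain ⟨G, i, s, hint, hcl, hisoU, hs, hsi⟩ := RatDivLib.exists_closure (pullback.fst sX sY) U
    (pullback.lift U.ι g hg.symm) (pullback.lift_fst _ _ _) hU
  haveI := hint
  haveI := hcl
  let f : G ⟶ X := i ≫ pullback.fst sX sY
  haveI : IsProper f := inferInstance
  haveI : IsProper (f ≫ sX) := inferInstance
  obtain ⟨hgen, hst⟩ := BirQFLib.birational_of_isIso_restrict f U hU hisoU
  have hsf : s ≫ f = U.ι := by rw [reassoc_of% hsi, pullback.lift_fst]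
  by_cases hiso : IsIso f
  · haveI := hiso
    refine ⟨inv f ≫ i ≫ pullback.snd sX sY, ?_, ?_⟩
    · rw [← hsf, Category.assoc, IsIso.hom_inv_id_assoc, reassoc_of% hsi, pullback.lift_snd]
    · rw [Category.assoc, Category.assoc, ← pullback.condition, ← Category.assoc i, IsIso.inv_hom_id_assoc]
  exfalso
  haveI : IsNoetherian G :=
    { toIsLocallyNoetherian := LocallyOfFiniteType.isLocallyNoetherian (f ≫ sX)
      toCompactSpace := QuasiCompact.compactSpace_of_compactSpace (f ≫ sX) }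
  obtain ⟨y₀, hy₀⟩ : (excSet f).Nonempty := by
    by_contra hempty
    apply hiso
    have hsurj : ∀ x : X, ∃ y : G, f y = x := fun x =>
      (genericPoint_specializes x).mem_closed f.isClosedMap.isClosed_range ⟨genericPoint G, hgen⟩
    have hloc : ∀ x : X, ∃ V : X.Opens, x ∈ V ∧ IsIso (f ∣_ V) := fun x => by
      obtain ⟨y, rfl⟩ := hsurj x
      by_contra hn
      exact hempty ⟨y, fun V hV hi => hn ⟨V, hV, hi⟩⟩
    choose V hxV hV using hloc
    exact (IsZariskiLocalAtTarget.iff_of_iSup_eq_top (P := MorphismProperty.isomorphisms Scheme) V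
      (eq_top_iff.2 fun x _ => Opens.mem_iSup.2 ⟨x, hxV x⟩)).2 hV
  obtain ⟨η, ⟨hη, hmax⟩, -⟩ := (exists_maximal_points (isClosed_excSet f)).2 y₀ hy₀
  have hngen : genericPoint G ∉ excSet f := fun h => h U (hgen.symm ▸
    (genericPoint_specializes hU.some).mem_open U.2 hU.some_mem) hisoU
  obtain ⟨O, hηO, hlines⟩ := exists_lines_through_component (f ≫ sX) sX hreg f rfl hgen hst hngen η hη hmax
  haveI : JacobsonSpace ↥G := LocallyOfFiniteType.jacobsonSpace (f ≫ sX)
  obtain ⟨y, ⟨hyO, hyη⟩, hyc⟩ := nonempty_inter_closedPoints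
    (⟨η, hηO, subset_closure rfl⟩ : ((O : Set G) ∩ closure {η}).Nonempty) (O.2.isLocallyClosed.inter isClosed_closure.isLocallyClosed)
  obtain ⟨c, hc, hnc, -, x, hx⟩ := hlines y hyO (specializes_iff_mem_closure.2 hyη) hyc
  haveI : IsProper (CohB1.ProjSpace.toSpec 1 k) := inferInstance
  have hc2 : (c ≫ i ≫ pullback.snd sX sY) ≫ sY = CohB1.ProjSpace.toSpec 1 k := by
    rw [← hc]; simp only [f, Category.assoc, pullback.condition]
  obtain ⟨z, hz⟩ := hnorat _ hc2
  haveI : IsIntegral (CohB1.ProjSpace 1 k) := inferInstance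
  have hconst : ∀ {T : Scheme.{u}} (sT : T ⟶ Spec (CommRingCat.of k)) [IsProper sT] (m : CohB1.ProjSpace 1 k ⟶ T),
      m ≫ sT = CohB1.ProjSpace.toSpec 1 k → ∀ w : T, Set.range m.base ⊆ {w} →
      ∃ pt : Spec (CommRingCat.of k) ⟶ T, m = CohB1.ProjSpace.toSpec 1 k ≫ pt ∧ pt ≫ sT = 𝟙 _ := by
    intro T sT _ m hm w hw
    haveI : IsProper (m ≫ sT) := by rw [hm]; infer_instance
    haveI : IsProper m := IsProper.of_comp m sT
    have hwc : IsClosed ({w} : Set T) := by
      have h1 : Set.range m.base = {w} := Set.Subset.antisymm hw (by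
        rintro _ rfl
        exact ⟨genericPoint _, hw ⟨genericPoint _, rfl⟩⟩)
      rw [← h1]
      exact m.isClosedMap.isClosed_range
    refine ⟨pointOfClosedPoint sT w hwc, ?_, pointOfClosedPoint_comp sT w hwc⟩
    haveI : LocallyOfFiniteType (m ≫ sT) := inferInstance
    refine ext_of_apply_eq sT Set.univ isClosed_univ.isLocallyClosed dense_univ (fun v _ _ => ?_) ?_
    · rw [Scheme.Hom.comp_apply, pointOfClosedPoint_apply]
      exact hw ⟨v, rfl⟩
    · rw [hm, Category.assoc, pointOfClosedPoint_comp, Category.comp_id]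
  obtain ⟨px, hpx, hpxs⟩ := hconst sX (c ≫ f) (by rw [Category.assoc]; exact hc) x hx
  obtain ⟨py, hpy, hpys⟩ := hconst sY _ hc2 z hz
  have hci : c ≫ i = CohB1.ProjSpace.toSpec 1 k ≫ pullback.lift px py (hpxs.trans hpys.symm) := by
    refine pullback.hom_ext ?_ ?_
    · rw [Category.assoc, Category.assoc, pullback.lift_fst]; exact hpx
    · rw [Category.assoc, Category.assoc, pullback.lift_snd]; exact hpy
  refine hnc ⟨c (genericPoint _), ?_⟩
  rintro _ ⟨v, rfl⟩
  refine Set.mem_singleton_iff.2 (i.isClosedEmbedding.injective ?_)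
  rw [← Scheme.Hom.comp_apply, ← Scheme.Hom.comp_apply, hci, Scheme.Hom.comp_apply, Scheme.Hom.comp_apply]
  haveI : Subsingleton ↥(Spec (CommRingCat.of k)) := inferInstanceAs (Subsingleton (PrimeSpectrum k))
  exact congrArg _ (Subsingleton.elim _ _)

/-- Regularity of a scheme smooth over a field. -/
theorem regular_of_smooth {X : Scheme.{u}} (sX : X ⟶ Spec (CommRingCat.of k)) [Smooth sX] (x : X) :
    IsRegularLocalRing (X.presheaf.stalk x) := by
  haveI : Subsingleton ↥(Spec (CommRingCat.of k)) := inferInstanceAs (Subsingleton (PrimeSpectrum k))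
  refine BlowChartLib.regular_stalk_of_smooth sX x ?_
  rw [Subsingleton.elim (sX x) (genericPoint (Spec (CommRingCat.of k)))]
  exact inferInstanceAs (IsRegularLocalRing (Spec (CommRingCat.of k)).functionField)

end Groth.Agent.RuledExcLib
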