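import Groth.Agent.BlowChartLib.Regular
import Groth.Agent.RegLocal.UFD
import Groth.Agent.RegIdealLib.Nested
import Mathlib.RingTheory.RegularLocalRing.Polynomial
import Mathlib.RingTheory.Valuation.ValuationSubring
import Mathlib.RingTheory.AlgebraicIndependent.AlgebraicClosure

/-!
# Quadratic transforms along a divisorial valuation and the ruledness of its residue field
-/

set_option autoImplicit false
set_option linter.style.haveILetI false
set_option maxHeartbeats 2000000

universe u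

open MvPolynomial

noncomputable section

namespace Groth.Agent.RuledExcLib

variable {K : Type u} [Field K]

/-- A regular local subring dominated by a valuation ring, with fraction field the whole field. -/
structure Dom (R : Subring K) (V : ValuationSubring K) : Prop where
  reg : IsRegularLocalRing R
  le : R ≤ V.toSubring
  inv_mem : ∀ x ∈ R, x ≠ 0 → x⁻¹ ∈ V → x⁻¹ ∈ R
  frac : ∀ z : K, ∃ a ∈ R, ∃ b ∈ R, b ≠ 0 ∧ z = a / b

/-- The residue field is ruled over the subring. -/
def Ruled (R : Subring K) (V : ValuationSubring K) : Prop :=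
  ∃ (L : Subfield (IsLocalRing.ResidueField V)) (T : IsLocalRing.ResidueField V),
    (∀ (a : K) (ha : a ∈ V), a ∈ R → IsLocalRing.residue V ⟨a, ha⟩ ∈ L) ∧
      Transcendental L T ∧ Subfield.closure ((L : Set (IsLocalRing.ResidueField V)) ∪ {T}) = ⊤

theorem Ruled.mono {R R' : Subring K} {V : ValuationSubring K} (h : R ≤ R') (hr : Ruled R' V) : Ruled R V := by
  obtain ⟨L, T, h1, h2, h3⟩ := hr
  exact ⟨L, T, fun a ha haR => h1 a ha (h haR), h2, h3⟩

theorem mem_maximal_iff (V : ValuationSubring K) {z : K} (hz : z ∈ V) :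
    (⟨z, hz⟩ : V) ∈ IsLocalRing.maximalIdeal V ↔ z = 0 ∨ z⁻¹ ∉ V := by
  rw [IsLocalRing.mem_maximalIdeal]
  constructor
  · intro h
    refine or_iff_not_imp_left.2 fun h0 hinv => h ?_
    exact IsUnit.of_mul_eq_one ⟨z⁻¹, hinv⟩ (Subtype.ext (mul_inv_cancel₀ h0))
  · rintro (rfl | h) hu
    · exact not_isUnit_zero (show IsUnit (0 : V) from hu)
    · obtain ⟨v, hv⟩ := isUnit_iff_exists_inv.1 hu
      have h1 : z * (v : K) = 1 := congrArg Subtype.val hv
      exact h (eq_inv_of_mul_eq_one_right h1 ▸ v.2)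

variable {R : Subring K} {V : ValuationSubring K}

theorem Dom.mem_maximal [IsLocalRing R] (h : Dom R V) (x : R) :
    x ∈ IsLocalRing.maximalIdeal R ↔ ((x : K) = 0 ∨ (x : K)⁻¹ ∉ V) := by
  rw [IsLocalRing.mem_maximalIdeal]
  constructor
  · intro hx
    refine or_iff_not_imp_left.2 fun h0 hinv => hx ?_
    exact IsUnit.of_mul_eq_one ⟨_, h.inv_mem x x.2 h0 hinv⟩ (Subtype.ext (mul_inv_cancel₀ h0))
  · intro hx hu
    obtain ⟨v, hv⟩ := isUnit_iff_exists_inv.1 hu
    have h1 : (x : K) * (v : K) = 1 := congrArg Subtype.val hv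
    rcases hx with h0 | hn
    · rw [h0, zero_mul] at h1
      exact zero_ne_one h1
    · exact hn (eq_inv_of_mul_eq_one_right h1 ▸ h.le v.2)

theorem isQuasiRegular_generators [IsRegularLocalRing R] (x : Fin (IsLocalRing.maximalIdeal R).spanFinrank → R)
    (hx : Ideal.span (Set.range x) = IsLocalRing.maximalIdeal R) : CAlgX.IsQuasiRegular x :=
  RegIdealLib.isQuasiRegular_of_isRegular
    (RegLocal.isRegular_of_generators R IsRegularLocalRing.spanFinrank_maximalIdeal.symm x hx)

/-- **One quadratic transform along a valuation.** -/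
theorem Dom.exists_step (h : Dom R V) [IsDiscreteValuationRing V] (hne : R ≠ V.toSubring) :
    ∃ R' : Subring K, Dom R' V ∧ R ≤ R' ∧
      (∃ t ∈ R, t ≠ 0 ∧ t⁻¹ ∉ V ∧ ∀ a ∈ R, (a = 0 ∨ a⁻¹ ∉ V) → a / t ∈ R') ∧
      (R' = V.toSubring → Ruled R V) := by
  classical
  haveI := h.reg
  have hmax := h.mem_maximal
  set d := (IsLocalRing.maximalIdeal R).spanFinrank with hd
  obtain ⟨x, hx⟩ := RegLocal.exists_generators (R := R)
  haveI : Nonempty (Fin d) := by
    by_contra hn
    haveI : IsEmpty (Fin d) := not_nonempty_iff.1 hn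
    refine hne (le_antisymm h.le fun z hz => ?_)
    have hbot : IsLocalRing.maximalIdeal R = ⊥ := by
      rw [← hx, Set.range_eq_empty, Ideal.span_empty]
    obtain ⟨a, ha, b, hb, hb0, rfl⟩ := h.frac z
    have hinv : b⁻¹ ∈ R := by
      by_contra hh
      have hm : (⟨b, hb⟩ : R) ∈ IsLocalRing.maximalIdeal R :=
        (hmax ⟨b, hb⟩).2 (Or.inr fun hv => hh (h.inv_mem b hb hb0 hv))
      rw [hbot, Ideal.mem_bot] at hm
      exact hb0 (congrArg Subtype.val hm)
    rw [div_eq_mul_inv]
    exact R.mul_mem ha hinv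
  obtain ⟨i₀, -, hi₀⟩ := Finset.exists_max_image Finset.univ (fun i : Fin d => V.valuation (x i : K))
    Finset.univ_nonempty
  set t : K := (x i₀ : K) with ht
  have hxm : ∀ i, x i ∈ IsLocalRing.maximalIdeal R := fun i => hx ▸ Ideal.subset_span ⟨i, rfl⟩
  have ht0 : t ≠ 0 := by
    intro h0
    obtain ⟨a, ha, b, hb, hb0, -⟩ := h.frac 1
    have hall : ∀ i, x i = 0 := fun i => by
      have h1 := hi₀ i (Finset.mem_univ _)
      rw [h0, map_zero, le_zero_iff, Valuation.zero_iff] at h1
      exact Subtype.ext h1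
    refine hne (le_antisymm h.le fun z hz => ?_)
    have hbot : IsLocalRing.maximalIdeal R = ⊥ := by
      rw [← hx, Ideal.span_eq_bot]
      rintro _ ⟨i, rfl⟩
      exact hall i
    obtain ⟨a, ha, b, hb, hb0, rfl⟩ := h.frac z
    have hinv : b⁻¹ ∈ R := by
      by_contra hh
      have hm : (⟨b, hb⟩ : R) ∈ IsLocalRing.maximalIdeal R :=
        (hmax ⟨b, hb⟩).2 (Or.inr fun hv => hh (h.inv_mem b hb hb0 hv))
      rw [hbot, Ideal.mem_bot] at hm
      exact hb0 (congrArg Subtype.val hm)
    rw [div_eq_mul_inv]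
    exact R.mul_mem ha hinv
  have htV : t⁻¹ ∉ V := ((hmax (x i₀)).1 (hxm i₀)).resolve_left ht0
  let J := {j : Fin d // j ≠ i₀}
  let v : J → K := fun j => (x j.1 : K) / t
  have hvV : ∀ i : Fin d, (x i : K) / t ∈ V := fun i => by
    rw [← V.valuation_le_one_iff, map_div₀]
    exact div_le_one_of_le₀ (hi₀ i (Finset.mem_univ _)) zero_le
  let Φ : MvPolynomial J R →+* K := eval₂Hom R.subtype v
  let A : Subring K := Φ.range
  have hRA : R ≤ A := fun r hr => ⟨C ⟨r, hr⟩, eval₂Hom_C _ _ _⟩
  have hAV : A ≤ V.toSubring := by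
    rintro _ ⟨P, rfl⟩
    induction P using MvPolynomial.induction_on with
    | C r => rw [eval₂Hom_C]; exact h.le r.2
    | add P Q hP hQ => rw [map_add]; exact V.toSubring.add_mem hP hQ
    | mul_X P j hP => rw [map_mul]; exact V.toSubring.mul_mem hP (by rw [eval₂Hom_X']; exact hvV j.1)
  have hxA : ∀ i : Fin d, (x i : K) / t ∈ A := fun i => by
    by_cases hi : i = i₀
    · subst hi
      rw [div_self ht0]
      exact A.one_mem
    · exact ⟨X ⟨i, hi⟩, eval₂Hom_X' _ _ _⟩
  have hdiv : ∀ a : R, a ∈ IsLocalRing.maximalIdeal R → (a : K) / t ∈ A := fun a ha => by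
    rw [← hx] at ha
    obtain ⟨c, rfl⟩ := Ideal.mem_span_range_iff_exists_fun.1 ha
    have e : ((∑ i, c i * x i : R) : K) / t = ∑ i, (c i : K) * ((x i : K) / t) := by
      rw [AddSubmonoidClass.coe_finsetSum, Finset.sum_div]
      exact Finset.sum_congr rfl fun i _ => by rw [Subring.coe_mul, mul_div_assoc]
    rw [e]
    exact sum_mem fun i _ => A.mul_mem (hRA (c i).2) (hxA i)
  haveI : IsFractionRing A K := IsFractionRing.of_field A K fun z => by
    obtain ⟨a, ha, b, hb, -, rfl⟩ := h.frac z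
    exact ⟨⟨a, hRA ha⟩, ⟨b, hRA hb⟩, rfl⟩
  haveI : IsNoetherianRing A := isNoetherianRing_of_surjective _ _ Φ.rangeRestrict Φ.rangeRestrict_surjective
  let toV : A →+* V := Subring.inclusion hAV
  let q : Ideal A := Ideal.comap toV (IsLocalRing.maximalIdeal V)
  haveI : q.IsPrime := Ideal.IsPrime.comap toV
  have hqS : q.primeCompl ≤ nonZeroDivisors A := Ideal.primeCompl_le_nonZeroDivisors q
  let B := Localization.subalgebra.ofField K q.primeCompl hqS
  let R' : Subring K := B.toSubring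
  have hmemB : ∀ z, z ∈ R' ↔ ∃ (a s : A) (_ : s ∈ q.primeCompl), z = (a : K) * (s : K)⁻¹ := fun z => Iff.rfl
  have hsq : ∀ s : A, s ∈ q.primeCompl ↔ ((s : K) ≠ 0 ∧ (s : K)⁻¹ ∈ V) := fun s => by
    show ¬ (toV s ∈ IsLocalRing.maximalIdeal V) ↔ _
    rw [show toV s = ⟨(s : K), hAV s.2⟩ from rfl, mem_maximal_iff V (hAV s.2)]
    tauto
  have hAR' : A ≤ R' := fun a ha => (hmemB a).2 ⟨⟨a, ha⟩, 1, q.primeCompl.one_mem, by simp⟩
  have hR'V : R' ≤ V.toSubring := fun z hz => by
    obtain ⟨a, s, hs, rfl⟩ := (hmemB z).1 hz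
    exact V.toSubring.mul_mem (hAV a.2) ((hsq s).1 hs).2
  -- the exceptional fibre
  let τ : A := ⟨t, hRA (x i₀).2⟩
  have hτq : τ ∈ q := by
    show toV τ ∈ IsLocalRing.maximalIdeal V
    rw [show toV τ = ⟨t, hAV τ.2⟩ from rfl, mem_maximal_iff V (hAV τ.2)]
    exact Or.inr htV
  let I : Ideal A := Ideal.span {τ}
  have hIq : I ≤ q := (Ideal.span_singleton_le_iff_mem _).2 hτq
  have hker : RingHom.ker ((Ideal.Quotient.mk I).comp Φ.rangeRestrict) =
      RingHom.ker (MvPolynomial.map (σ := J) (IsLocalRing.residue R)) := by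
    ext P
    rw [RingHom.mem_ker, RingHom.mem_ker, RingHom.comp_apply, Ideal.Quotient.eq_zero_iff_mem,
      Ideal.mem_span_singleton']
    constructor
    · rintro ⟨⟨_, Q, rfl⟩, hQ⟩
      ext m
      rw [coeff_map, coeff_zero, IsLocalRing.residue_eq_zero_iff]
      have h0 : Φ (P - C (x i₀) * Q) = 0 := by
        rw [map_sub, map_mul, eval₂Hom_C, sub_eq_zero]
        exact ((mul_comm _ _).trans (congrArg Subtype.val hQ)).symm
      let L := Localization.Away (x i₀)
      have hx0 : x i₀ ≠ 0 := fun h' => ht0 (congrArg Subtype.val h')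
      have hunit : ∀ y : Submonoid.powers (x i₀), IsUnit (R.subtype y) := by
        rintro ⟨_, n, rfl⟩
        refine isUnit_iff_ne_zero.2 ?_
        show ((x i₀ ^ n : R) : K) ≠ 0
        rw [Subring.coe_pow]
        exact pow_ne_zero n ht0
      let lf : L →+* K := IsLocalization.lift hunit
      have hlf : Function.Injective lf := by
        rw [IsLocalization.lift_injective_iff]
        intro a b
        refine ⟨fun e => ?_, fun e => ?_⟩
        · have := congrArg lf e
          rwa [IsLocalization.lift_eq, IsLocalization.lift_eq] at this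
        · exact congrArg _ (Subtype.ext e)
      let vL : J → L := fun j => IsLocalization.mk' L (x j.1) ⟨x i₀, Submonoid.mem_powers _⟩
      have hev : eval₂Hom (algebraMap R L) vL (P - C (x i₀) * Q) = 0 := by
        refine hlf ?_
        rw [map_zero, ← h0]
        refine RingHom.congr_fun (f := lf.comp (eval₂Hom (algebraMap R L) vL)) (g := Φ) ?_ _
        refine MvPolynomial.ringHom_ext (fun r => ?_) (fun j => ?_)
        · rw [RingHom.comp_apply, eval₂Hom_C, IsLocalization.lift_eq, eval₂Hom_C]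
        · rw [RingHom.comp_apply, eval₂Hom_X', eval₂Hom_X', IsLocalization.lift_mk'_spec]
          show (x j.1 : K) = t * ((x j.1 : K) / t)
          field_simp
      have hc := BlowChartLib.coeff_mem_of_eval₂_eq_zero (isQuasiRegular_generators x hx) i₀ vL
        (fun j => (IsLocalization.mk'_spec L (x j.1) ⟨x i₀, Submonoid.mem_powers _⟩).symm) _ hev m
      rw [hx, coeff_sub, coeff_C_mul] at hc
      simpa using add_mem hc (Ideal.mul_mem_right (Q.coeff m) _ (hxm i₀))
    · intro hP
      have hc : ∀ m, ((P.coeff m : R) : K) / t ∈ A := fun m => hdiv _ (by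
        rw [← IsLocalRing.residue_eq_zero_iff, ← coeff_map, hP, coeff_zero])
      refine ⟨∑ m ∈ P.support, ⟨_, hc m⟩ * Φ.rangeRestrict (monomial m 1), Subtype.ext ?_⟩
      conv_rhs => rw [P.as_sum]
      simp only [Subring.coe_mul, AddSubmonoidClass.coe_finsetSum, RingHom.coe_rangeRestrict, map_sum,
        Finset.sum_mul]
      refine Finset.sum_congr rfl fun m _ => ?_
      rw [show monomial m (P.coeff m) = C (P.coeff m) * monomial m 1 by rw [C_mul_monomial, mul_one], map_mul,
        Subring.coe_mul, RingHom.coe_rangeRestrict, RingHom.coe_rangeRestrict, eval₂Hom_C]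
      show ((P.coeff m : R) : K) / t * _ * t = ((P.coeff m : R) : K) * _
      field_simp
  let κ := IsLocalRing.ResidueField R
  have hsurjmap : Function.Surjective (MvPolynomial.map (σ := J) (IsLocalRing.residue R)) :=
    MvPolynomial.map_surjective _ IsLocalRing.residue_surjective
  have hsurjq : Function.Surjective ((Ideal.Quotient.mk I).comp Φ.rangeRestrict) :=
    Ideal.Quotient.mk_surjective.comp Φ.rangeRestrict_surjective
  let e : MvPolynomial J κ ≃+* A ⧸ I := (RingHom.quotientKerEquivOfSurjective hsurjmap).symm.trans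
    ((Ideal.quotEquivOfEq hker.symm).trans (RingHom.quotientKerEquivOfSurjective hsurjq))
  haveI : IsDomain (A ⧸ I) := e.symm.toMulEquiv.isDomain (MvPolynomial J κ)
  haveI hIprime : I.IsPrime := Ideal.Quotient.isDomain_iff_prime I |>.1 inferInstance
  haveI : IsRegularRing (A ⧸ I) := IsRegularRing.of_ringEquiv e
  -- regularity of the transform
  haveI : IsLocalization.AtPrime B q := Localization.subalgebra.isLocalization_ofField K q.primeCompl hqS
  haveI : IsLocalRing B := IsLocalization.AtPrime.isLocalRing B q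
  haveI : IsNoetherianRing B := IsLocalization.isNoetherianRing q.primeCompl B inferInstance
  have hregB : IsRegularLocalRing B := by
    let qb : Ideal (A ⧸ I) := q.map (Ideal.Quotient.mk I)
    have hcomap : qb.comap (Ideal.Quotient.mk I) = q := by
      rw [Ideal.comap_map_of_surjective _ Ideal.Quotient.mk_surjective, ← RingHom.ker_eq_comap_bot, Ideal.mk_ker,
        sup_eq_left.2 hIq]
    haveI : qb.IsPrime := Ideal.map_isPrime_of_surjective Ideal.Quotient.mk_surjective (by rw [Ideal.mk_ker]; exact hIq)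
    have hS : Algebra.algebraMapSubmonoid (A ⧸ I) q.primeCompl = qb.primeCompl := by
      ext y
      constructor
      · rintro ⟨s, hs, rfl⟩ hy
        exact hs (hcomap ▸ (show s ∈ qb.comap (Ideal.Quotient.mk I) from hy))
      · intro hy
        obtain ⟨s, rfl⟩ := Ideal.Quotient.mk_surjective y
        exact ⟨s, fun hs => hy (Ideal.mem_map_of_mem _ hs), rfl⟩
    haveI : IsLocalization qb.primeCompl (B ⧸ I.map (algebraMap A B)) := hS ▸ inferInstance
    have hIB : I.map (algebraMap A B) = Ideal.span {algebraMap A B τ} := by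
      rw [Ideal.map_span, Set.image_singleton]
    haveI : IsRegularLocalRing (B ⧸ Ideal.span ({algebraMap A B τ} : Set B)) :=
      IsRegularLocalRing.of_ringEquiv (R := Localization.AtPrime qb)
        ((IsLocalization.algEquiv qb.primeCompl _ (B ⧸ I.map (algebraMap A B))).toRingEquiv.trans
          (Ideal.quotEquivOfEq hIB))
    refine RegLocal.isRegularLocalRing_of_quot_regular (x := algebraMap A B τ) ?_ ?_
    · exact (IsLocalization.AtPrime.to_map_mem_maximal_iff B q τ).2 hτq
    · refine mem_nonZeroDivisors_of_ne_zero fun h' => ht0 ?_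
      exact congrArg Subtype.val h'
  have hfrac' : ∀ z : K, ∃ a ∈ R', ∃ b ∈ R', b ≠ 0 ∧ z = a / b := fun z => by
    obtain ⟨a, ha, b, hb, hb0, rfl⟩ := h.frac z
    exact ⟨a, hAR' (hRA ha), b, hAR' (hRA hb), hb0, rfl⟩
  refine ⟨R', ⟨hregB, hR'V, fun z hz hz0 hzV => ?_, hfrac'⟩, hRA.trans hAR',
    ⟨t, (x i₀).2, ht0, htV, fun a ha ha' => hAR' (hdiv ⟨a, ha⟩ ((hmax ⟨a, ha⟩).2 ha'))⟩, fun hEq => ?_⟩
  · obtain ⟨a, s, hs, rfl⟩ := (hmemB z).1 hz
    have hsK := (hsq s).1 hs
    have ha0 : (a : K) ≠ 0 := left_ne_zero_of_mul hz0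
    refine (hmemB _).2 ⟨s, a, (hsq a).2 ⟨ha0, ?_⟩, by rw [mul_inv, inv_inv, mul_comm]⟩
    have e : (a : K)⁻¹ = ((a : K) * (s : K)⁻¹)⁻¹ * (s : K)⁻¹ := by
      rw [mul_inv, inv_inv, mul_assoc, mul_inv_cancel₀ hsK.1, mul_one]
    rw [e]
    exact V.toSubring.mul_mem hzV hsK.2
  -- the last step
  have hqI : q = I := by
    refine le_antisymm (fun a ha => ?_) hIq
    by_cases ha0 : a = 0
    · rw [ha0]; exact zero_mem _
    obtain ⟨π, hπ⟩ := IsDiscreteValuationRing.exists_irreducible V
    have hτ0 : toV τ ≠ 0 := fun h' => ht0 (congrArg Subtype.val h')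
    obtain ⟨n, un, hn⟩ := IsDiscreteValuationRing.eq_unit_mul_pow_irreducible hτ0 hπ
    obtain ⟨m, um, hm⟩ := IsDiscreteValuationRing.eq_unit_mul_pow_irreducible
      (x := toV a) (fun h' => ha0 (Subtype.ext (show (a : K) = ((0 : A) : K) from congrArg (fun w : V => (w : K)) h'))) hπ
    have hm1 : 1 ≤ m := by
      by_contra hh
      have : m = 0 := by omega
      rw [this, pow_zero, mul_one] at hm
      exact (show toV a ∈ IsLocalRing.maximalIdeal V from ha) (hm ▸ um.isUnit)
    obtain ⟨c, hc⟩ : toV τ ∣ (toV a) ^ n := by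
      rw [hn, hm, mul_pow, ← pow_mul, Units.mul_left_dvd]
      exact Dvd.dvd.mul_left (pow_dvd_pow π (Nat.le_mul_of_pos_left n hm1)) _
    obtain ⟨b, s, hs, hbs⟩ := (hmemB _).1 (show (c : K) ∈ R' by rw [hEq]; exact c.2)
    have hsK := (hsq s).1 hs
    have h1 : a ^ n * s = b * τ := Subtype.ext (by
      have h2 : (a : K) ^ n = t * (c : K) := by
        have h3 := congrArg Subtype.val hc
        rw [SubmonoidClass.coe_pow] at h3
        exact h3
      show (a : K) ^ n * (s : K) = (b : K) * t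
      rw [h2, hbs]
      field_simp [hsK.1])
    have h2 : a ^ n * s ∈ I := h1 ▸ Ideal.mul_mem_left _ _ (Ideal.mem_span_singleton_self τ)
    rcases hIprime.mem_or_mem h2 with h3 | h3
    · exact hIprime.mem_of_pow_mem _ h3
    · exact absurd (hIq h3) hs
  have hJ : Nonempty J := by
    by_contra hn
    haveI : IsEmpty J := not_nonempty_iff.1 hn
    have hAR : A ≤ R := by
      rintro _ ⟨P, rfl⟩
      rw [show P = C (P.coeff 0) from (eq_C_of_isEmpty P), eval₂Hom_C]
      exact (P.coeff 0).2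
    refine hne (le_antisymm h.le fun z hz => ?_)
    rw [← hEq] at hz
    obtain ⟨a, s, hs, rfl⟩ := (hmemB z).1 hz
    exact R.mul_mem (hAR a.2) (h.inv_mem s (hAR s.2) ((hsq s).1 hs).1 ((hsq s).1 hs).2)
  let KV := IsLocalRing.ResidueField V
  let ρ : A →+* KV := (IsLocalRing.residue V).comp toV
  have hρker : RingHom.ker ρ = I := by
    rw [← hqI]
    ext a
    rw [RingHom.mem_ker, RingHom.comp_apply, IsLocalRing.residue_eq_zero_iff]
    rfl
  let ψ : MvPolynomial J κ →+* KV := (Ideal.Quotient.lift I ρ (fun a ha => by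
    rw [← RingHom.mem_ker, hρker]; exact ha)).comp e.toRingHom
  have hψinj : Function.Injective ψ :=
    (RingHom.lift_injective_of_ker_le_ideal I (fun a ha => by rw [← RingHom.mem_ker, hρker]; exact ha) hρker.le).comp e.injective
  have heq : ∀ P : MvPolynomial J R, ψ (MvPolynomial.map (IsLocalRing.residue R) P) = ρ (Φ.rangeRestrict P) := fun P => by
    have h1 : e (MvPolynomial.map (IsLocalRing.residue R) P) = Ideal.Quotient.mk I (Φ.rangeRestrict P) := by
      have h0 : (RingHom.quotientKerEquivOfSurjective hsurjmap).symm (MvPolynomial.map (IsLocalRing.residue R) P) =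
          Ideal.Quotient.mk _ P := by
        rw [RingEquiv.symm_apply_eq]; rfl
      refine (congrArg (fun z => RingHom.quotientKerEquivOfSurjective hsurjq (Ideal.quotEquivOfEq hker.symm z)) h0).trans ?_
      rfl
    show (Ideal.Quotient.lift I ρ (fun a ha => by rw [← RingHom.mem_ker, hρker]; exact ha)) (e (MvPolynomial.map (IsLocalRing.residue R) P)) = _
    rw [h1]
    rfl
  have hfracψ : ∀ z : KV, ∃ P Q : MvPolynomial J κ, z = ψ P / ψ Q := fun z => by
    obtain ⟨⟨w, hw⟩, rfl⟩ := IsLocalRing.residue_surjective z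
    obtain ⟨a, s, hs, hws⟩ := (hmemB w).1 (show w ∈ R' from hEq ▸ hw)
    obtain ⟨P, hP⟩ := Φ.rangeRestrict_surjective a
    obtain ⟨Q, hQ⟩ := Φ.rangeRestrict_surjective s
    refine ⟨MvPolynomial.map (IsLocalRing.residue R) P, MvPolynomial.map (IsLocalRing.residue R) Q, ?_⟩
    rw [heq, heq, hP, hQ]
    have hs0 : ρ s ≠ 0 := fun h' => hs (by rw [hqI, ← hρker]; exact h')
    rw [eq_div_iff hs0]
    show IsLocalRing.residue V _ * IsLocalRing.residue V _ = IsLocalRing.residue V _
    rw [← map_mul]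
    congr 1
    refine Subtype.ext ?_
    show w * (s : K) = (a : K)
    rw [hws, mul_assoc, inv_mul_cancel₀ ((hsq s).1 hs).1, mul_one]
  letI : Algebra κ KV := (ψ.comp C).toAlgebra
  have hindep : AlgebraicIndependent κ (fun j : J => ψ (X j)) := by
    rw [algebraicIndependent_iff_injective_aeval]
    have : (aeval (R := κ) fun j : J => ψ (X j)).toRingHom = ψ :=
      MvPolynomial.ringHom_ext (fun r => aeval_C _ r) (fun j => aeval_X _ j)
    intro P Q hPQ
    refine hψinj ?_
    rw [← this]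
    exact hPQ
  obtain ⟨j₀⟩ := hJ
  let L : IntermediateField κ KV := IntermediateField.adjoin κ ((fun j => ψ (X j)) '' {j₀}ᶜ)
  refine ⟨L.toSubfield, ψ (X j₀), fun a haV haR => ?_, ?_, top_le_iff.1 fun z _ => ?_⟩
  · have h1 : IsLocalRing.residue V ⟨a, haV⟩ = ψ (MvPolynomial.map (IsLocalRing.residue R) (C ⟨a, haR⟩)) := by
      rw [heq]
      show _ = IsLocalRing.residue V _
      congr 1
      exact Subtype.ext (show a = Φ (C ⟨a, haR⟩) by rw [eval₂Hom_C]; rfl)
    rw [h1, map_C]
    exact L.algebraMap_mem _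
  · have := hindep.transcendental_adjoin (s := ({j₀}ᶜ : Set J)) (i := j₀) (by simp)
    exact IntermediateField.transcendental_adjoin_iff.2 this
  · let S : Subfield KV := Subfield.closure ((L.toSubfield : Set KV) ∪ {ψ (X j₀)})
    have hS : ∀ P, ψ P ∈ S := fun P => by
      induction P using MvPolynomial.induction_on with
      | C r => exact Subfield.subset_closure (Or.inl (L.algebraMap_mem r))
      | add P Q hP hQ => rw [map_add]; exact S.add_mem hP hQ
      | mul_X P j hP =>
        rw [map_mul]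
        refine S.mul_mem hP (Subfield.subset_closure ?_)
        by_cases hj : j = j₀
        · exact Or.inr (hj ▸ rfl)
        · exact Or.inl (IntermediateField.subset_adjoin κ _ ⟨j, hj, rfl⟩)
    obtain ⟨P, Q, rfl⟩ := hfracψ z
    exact S.div_mem (hS P) (hS Q)

/-- **Zariski–Abhyankar.** A divisorial valuation ring dominating a regular local ring of the same fraction
field, other than the ring itself, has ruled residue field. -/
theorem Dom.ruled (h : Dom R V) [IsDiscreteValuationRing V] (hne : R ≠ V.toSubring) (s : Finset K)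
    (hs : ∀ b ∈ s, b ∈ V) (hgen : ∀ z ∈ V, ∃ a u : K, a ∈ Subring.closure ((R : Set K) ∪ s) ∧
      u ∈ Subring.closure ((R : Set K) ∪ s) ∧ u ≠ 0 ∧ u⁻¹ ∈ V ∧ z = a / u) : Ruled R V := by
  classical
  by_contra hnot
  have hinv : ∀ b : V, ∀ a : K, ∀ R₁ : Subring K, Dom R₁ V → R ≤ R₁ → R₁ ≠ V.toSubring → a ∈ R₁ → (b : K) ∈ R₁ →
      (b : K) ≠ 0 → a / (b : K) ∈ V → ∃ R₂ : Subring K, Dom R₂ V ∧ R₁ ≤ R₂ ∧ R₂ ≠ V.toSubring ∧ a / (b : K) ∈ R₂ := by
    intro b
    induction b using (wellFounded_dvdNotUnit (α := V)).induction with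
    | _ b ih =>
      intro a R₁ hR₁ hle hne₁ ha hb hb0 hab
      by_cases hbu : (b : K)⁻¹ ∈ V
      · refine ⟨R₁, hR₁, le_rfl, hne₁, ?_⟩
        rw [div_eq_mul_inv]
        exact R₁.mul_mem ha (hR₁.inv_mem _ hb hb0 hbu)
      obtain ⟨R₂, hR₂, hle₂, ⟨t, htR, ht0, htV, hdiv⟩, hr⟩ := hR₁.exists_step hne₁
      have hne₂ : R₂ ≠ V.toSubring := fun e => hnot ((hr e).mono hle)
      have ha' : a = 0 ∨ a⁻¹ ∉ V := or_iff_not_imp_left.2 fun ha0 hai => hbu (by
        have e : (b : K)⁻¹ = a / (b : K) * a⁻¹ := by field_simp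
        rw [e]; exact V.toSubring.mul_mem hab hai)
      have hbt : (b : K) / t ∈ R₂ := hdiv _ hb (Or.inr hbu)
      let b₁ : V := ⟨(b : K) / t, hR₂.le hbt⟩
      have hlt : DvdNotUnit b₁ b := by
        refine ⟨fun h' => hb0 ?_, ⟨t, hR₁.le htR⟩, ?_, Subtype.ext ?_⟩
        · have h'' : (b : K) / t = 0 := congrArg Subtype.val h'
          simpa [ht0] using h''
        · exact (mem_maximal_iff V (hR₁.le htR)).2 (Or.inr htV)
        · show (b : K) = (b : K) / t * t
          field_simp
      obtain ⟨R₃, hR₃, hle₃, hne₃, hmem⟩ := ih b₁ hlt (a / t) R₂ hR₂ (hle.trans hle₂) hne₂ (hdiv a ha ha') hbt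
        (div_ne_zero hb0 ht0) (by rw [show (b₁ : K) = (b : K) / t from rfl, div_div_div_cancel_right₀ ht0]; exact hab)
      rw [show (b₁ : K) = (b : K) / t from rfl, div_div_div_cancel_right₀ ht0] at hmem
      exact ⟨R₃, hR₃, hle₂.trans hle₃, hne₃, hmem⟩
  have hall : ∀ s' : Finset K, (∀ b ∈ s', b ∈ V) →
      ∃ R₁ : Subring K, Dom R₁ V ∧ R ≤ R₁ ∧ R₁ ≠ V.toSubring ∧ ∀ b ∈ s', b ∈ R₁ := by
    intro s'
    induction s' using Finset.induction_on with
    | empty => exact fun _ => ⟨R, h, le_rfl, hne, by simp⟩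
    | insert c s' hc ih =>
      intro hs'
      obtain ⟨R₁, hR₁, hle, hne₁, hmem⟩ := ih fun b hb => hs' b (Finset.mem_insert_of_mem hb)
      obtain ⟨a, ha, b, hb, hb0, hcab⟩ := hR₁.frac c
      obtain ⟨R₂, hR₂, hle₂, hne₂, hc₂⟩ := hinv ⟨b, hR₁.le hb⟩ a R₁ hR₁ hle hne₁ ha hb hb0
        (hcab ▸ hs' c (Finset.mem_insert_self _ _))
      refine ⟨R₂, hR₂, hle.trans hle₂, hne₂, fun b' hb' => ?_⟩
      rcases Finset.mem_insert.1 hb' with rfl | hb'
      · exact hcab ▸ hc₂
      · exact hle₂ (hmem b' hb')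
  obtain ⟨R₁, hR₁, hle, hne₁, hmem⟩ := hall s hs
  have hcl : Subring.closure ((R : Set K) ∪ s) ≤ R₁ :=
    Subring.closure_le.2 (Set.union_subset hle fun b hb => hmem b hb)
  refine hne₁ (le_antisymm hR₁.le fun z hz => ?_)
  obtain ⟨a, u, ha, hu, hu0, huV, rfl⟩ := hgen z hz
  rw [div_eq_mul_inv]
  exact R₁.mul_mem (hcl ha) (hR₁.inv_mem u (hcl hu) hu0 huV)

end Groth.Agent.RuledExcLib
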